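import Mathlib.GroupTheory.Solvable
import Mathlib.GroupTheory.Index
import Mathlib.GroupTheory.QuotientGroup.Basic
import Mathlib.GroupTheory.PGroup
import Mathlib.GroupTheory.Sylow
import Mathlib.GroupTheory.Perm.Cycle.Type

/-!
Shared basics: minimal normal subgroups of (solvable) finite groups, and cardinalities of
joins, images and preimages along quotient maps.
-/

set_option autoImplicit false

namespace Cfsg.Agent.Solvable

open Subgroup
open scoped commutatorElement

variable {G : Type*} [Group G]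

theorem card_mul_relIndex {H K : Subgroup G} (h : H ≤ K) :
    Nat.card H * H.relIndex K = Nat.card K := by
  have := relIndex_mul_relIndex (⊥ : Subgroup G) H K bot_le h
  rwa [relIndex_bot_left, relIndex_bot_left] at this

theorem card_sup_mul_card_inf (H N : Subgroup G) [N.Normal] :
    Nat.card ↥(H ⊔ N) * Nat.card ↥(H ⊓ N) = Nat.card H * Nat.card N := by
  rw [← card_mul_relIndex (le_sup_right : N ≤ H ⊔ N), relIndex_sup_right,
    ← card_mul_relIndex (inf_le_left : H ⊓ N ≤ H), inf_relIndex_left]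
  ring

theorem card_map_mk'_mul (H N : Subgroup G) [N.Normal] :
    Nat.card (H.map (QuotientGroup.mk' N)) * Nat.card ↥(H ⊓ N) = Nat.card H := by
  rw [← relIndex_ker, QuotientGroup.ker_mk', ← card_mul_relIndex (inf_le_left : H ⊓ N ≤ H),
    inf_relIndex_left, mul_comm]

theorem card_map_mk'_of_le (H N : Subgroup G) [N.Normal] (h : N ≤ H) :
    Nat.card (H.map (QuotientGroup.mk' N)) * Nat.card N = Nat.card H := by
  have := card_map_mk'_mul H N
  rwa [inf_eq_right.mpr h] at this

theorem card_comap_mk' (N : Subgroup G) [N.Normal] (H : Subgroup (G ⧸ N)) :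
    Nat.card (H.comap (QuotientGroup.mk' N)) = Nat.card H * Nat.card N := by
  have h := card_map_mk'_of_le (H.comap (QuotientGroup.mk' N)) N (by
    intro x hx; simp [(QuotientGroup.eq_one_iff x).2 hx])
  rw [map_comap_eq_self_of_surjective (QuotientGroup.mk'_surjective N)] at h
  exact h.symm

theorem comap_map_mk' (H N : Subgroup G) [N.Normal] :
    (H.map (QuotientGroup.mk' N)).comap (QuotientGroup.mk' N) = H ⊔ N := by
  rw [comap_map_eq, QuotientGroup.ker_mk']

/-- A nontrivial normal subgroup of a finite group contains a minimal normal subgroup. -/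
theorem exists_minimal_normal_le [Finite G] (M : Subgroup G) [M.Normal] (hM : M ≠ ⊥) :
    ∃ N : Subgroup G, N.Normal ∧ N ≠ ⊥ ∧ N ≤ M ∧
      ∀ K : Subgroup G, K.Normal → K ≤ N → K = ⊥ ∨ K = N := by
  obtain ⟨N, hNM, hmin⟩ := Finite.exists_le_minimal
    (p := fun N : Subgroup G => N.Normal ∧ N ≠ ⊥) (a := M) ⟨inferInstance, hM⟩
  refine ⟨N, hmin.1.1, hmin.1.2, hNM, fun K hK hKN => ?_⟩
  by_cases hKb : K = ⊥
  · exact Or.inl hKb
  · exact Or.inr (le_antisymm hKN (hmin.2 ⟨hK, hKb⟩ hKN))

theorem exists_minimal_normal (G : Type*) [Group G] [Finite G] [Nontrivial G] :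
    ∃ N : Subgroup G, N.Normal ∧ N ≠ ⊥ ∧
      ∀ K : Subgroup G, K.Normal → K ≤ N → K = ⊥ ∨ K = N := by
  obtain ⟨N, h1, h2, -, h3⟩ := exists_minimal_normal_le (⊤ : Subgroup G) top_ne_bot
  exact ⟨N, h1, h2, h3⟩

/-- A solvable minimal normal subgroup is abelian. -/
theorem isMulCommutative_of_minimal_normal (N : Subgroup G) [N.Normal] [Group.IsSolvable N]
    (hN : N ≠ ⊥) (hmin : ∀ K : Subgroup G, K.Normal → K ≤ N → K = ⊥ ∨ K = N) :
    IsMulCommutative N := by
  have : Nontrivial N := (nontrivial_iff_ne_bot N).2 hN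
  have hlt : commutator N < ⊤ := Group.IsSolvable.commutator_lt_top_of_nontrivial N
  rcases hmin ⁅N, N⁆ inferInstance (commutator_le_left N N) with h | h
  · refine ⟨⟨fun a b => ?_⟩⟩
    have : ⁅(a : G), (b : G)⁆ ∈ (⁅N, N⁆ : Subgroup G) := commutator_mem_commutator a.2 b.2
    rw [h, mem_bot, commutatorElement_eq_one_iff_mul_comm] at this
    exact Subtype.ext this
  · refine absurd ?_ hlt.ne
    apply map_injective (f := N.subtype) N.subtype_injective
    rw [map_subtype_commutator, h, ← MonoidHom.range_eq_map, range_subtype]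

/-- A minimal normal subgroup of a finite group which is solvable is an elementary abelian
`p`-group for some prime `p`. -/
theorem exists_prime_of_minimal_normal [Finite G] (N : Subgroup G) [N.Normal] [Group.IsSolvable N]
    (hN : N ≠ ⊥) (hmin : ∀ K : Subgroup G, K.Normal → K ≤ N → K = ⊥ ∨ K = N) :
    ∃ p : ℕ, p.Prime ∧ IsPGroup p N ∧ IsMulCommutative N ∧ (∀ x ∈ N, x ^ p = 1) ∧
      ∃ d, 0 < d ∧ Nat.card N = p ^ d := by
  have hc := isMulCommutative_of_minimal_normal N hN hmin
  have hcard : Nat.card N ≠ 1 := fun h => hN (card_eq_one.1 h)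
  obtain ⟨p, hp, hpd⟩ := Nat.exists_prime_and_dvd hcard
  have : Fact p.Prime := ⟨hp⟩
  let K : Subgroup G :=
    { carrier := {x | x ∈ N ∧ x ^ p = 1}
      one_mem' := ⟨N.one_mem, one_pow p⟩
      mul_mem' := fun {a b} ha hb => ⟨N.mul_mem ha.1 hb.1, by
        have hab : Commute a b := congrArg Subtype.val (hc.1.1 ⟨a, ha.1⟩ ⟨b, hb.1⟩)
        rw [hab.mul_pow, ha.2, hb.2, one_mul]⟩
      inv_mem' := fun {a} ha => ⟨N.inv_mem ha.1, by rw [inv_pow, ha.2, inv_one]⟩ }
  have hKn : K.Normal := ⟨fun a ha g => ⟨Normal.conj_mem inferInstance a ha.1 g, by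
    rw [conj_pow, ha.2, mul_one, mul_inv_cancel]⟩⟩
  have hpow : ∀ x ∈ N, x ^ p = 1 := by
    rcases hmin K hKn (fun x hx => hx.1) with h | h
    · obtain ⟨x, hx⟩ := exists_prime_orderOf_dvd_card' p hpd
      have hx' : (x : G) ∈ K := ⟨x.2, by
        rw [← SubgroupClass.coe_pow, ← hx, pow_orderOf_eq_one, OneMemClass.coe_one]⟩
      rw [h, mem_bot, OneMemClass.coe_eq_one] at hx'
      rw [hx', orderOf_one] at hx
      exact absurd hx.symm hp.ne_one
    · intro x hx
      rw [← h] at hx
      exact hx.2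
  have hpg : IsPGroup p N := fun x => ⟨1, by
    apply Subtype.ext; simpa using hpow x x.2⟩
  obtain ⟨d, hd⟩ := IsPGroup.iff_card.1 hpg
  refine ⟨p, hp, hpg, hc, hpow, d, ?_, hd⟩
  rcases Nat.eq_zero_or_pos d with h | h
  · rw [h, pow_zero] at hd; exact absurd hd hcard
  · exact h

/-- A nontrivial finite solvable group has a minimal normal subgroup, which is elementary
abelian of prime power order. -/
theorem exists_minimal_normal_elementary (G : Type*) [Group G] [Finite G] [Nontrivial G]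
    [Group.IsSolvable G] :
    ∃ (N : Subgroup G) (p : ℕ), N.Normal ∧ N ≠ ⊥ ∧
      (∀ K : Subgroup G, K.Normal → K ≤ N → K = ⊥ ∨ K = N) ∧
      p.Prime ∧ IsPGroup p N ∧ IsMulCommutative N ∧ (∀ x ∈ N, x ^ p = 1) ∧
      ∃ d, 0 < d ∧ Nat.card N = p ^ d := by
  obtain ⟨N, h1, h2, h3⟩ := exists_minimal_normal G
  obtain ⟨p, h⟩ := exists_prime_of_minimal_normal N h2 h3
  exact ⟨N, p, h1, h2, h3, h⟩

/-- If `N` is abelian and normal and `H ⊔ N = ⊤`, then `N ⊓ H` is normal in `G`. -/
theorem normal_inf_of_abelian_sup_eq_top (N H : Subgroup G) [N.Normal] [IsMulCommutative N]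
    (h : N ⊔ H = ⊤) : (N ⊓ H).Normal := by
  rw [← normalizer_eq_top_iff, eq_top_iff, ← h]
  refine sup_le ?_ ?_
  · intro x hx
    rw [mem_normalizer_iff]
    intro y
    have hy : ∀ y ∈ N, x * y * x⁻¹ = y := fun y hy => by
      have : x * y = y * x := congrArg Subtype.val (mul_comm' (⟨x, hx⟩ : N) ⟨y, hy⟩)
      rw [this, mul_inv_cancel_right]
    constructor
    · intro hyy; rwa [hy y hyy.1]
    · intro hyy
      have hyN : y ∈ N := by
        have := Normal.conj_mem (inferInstance : N.Normal) _ hyy.1 x⁻¹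
        simpa [mul_assoc] using this
      rwa [hy y hyN] at hyy
  · intro x hx
    rw [mem_normalizer_iff]
    intro y
    constructor
    · rintro ⟨h1, h2⟩
      exact ⟨Normal.conj_mem inferInstance y h1 x, H.mul_mem (H.mul_mem hx h2) (H.inv_mem hx)⟩
    · rintro ⟨h1, h2⟩
      refine ⟨?_, ?_⟩
      · simpa [mul_assoc] using Normal.conj_mem (inferInstance : N.Normal) _ h1 x⁻¹
      · simpa [mul_assoc] using H.mul_mem (H.mul_mem (H.inv_mem hx) h2) hx

/-- An abelian minimal normal subgroup `N` meets a proper supplement trivially. -/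
theorem inf_eq_bot_of_minimal_normal (N H : Subgroup G) [N.Normal] [IsMulCommutative N]
    (hmin : ∀ K : Subgroup G, K.Normal → K ≤ N → K = ⊥ ∨ K = N)
    (h : N ⊔ H = ⊤) (hH : H ≠ ⊤) : N ⊓ H = ⊥ := by
  rcases hmin _ (normal_inf_of_abelian_sup_eq_top N H h) inf_le_left with h' | h'
  · exact h'
  · refine absurd ?_ hH
    rw [← h]
    exact (sup_eq_right.2 (inf_eq_left.1 h')).symm

end Cfsg.Agent.Solvable
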