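import Mathlib.GroupTheory.Index
import Mathlib.Algebra.Group.Subgroup.Pointwise
import Mathlib.GroupTheory.Coset.Card

/-!
Conjugation of subgroups, written `MulAut.conj g • H`: behaviour under homomorphisms,
passage between a subgroup and the ambient group.
-/

set_option autoImplicit false

namespace Cfsg.Agent.Solvable

open Subgroup
open scoped Pointwise

variable {G : Type*} [Group G]

theorem map_conj_smul {G' : Type*} [Group G'] (f : G →* G') (g : G) (H : Subgroup G) :
    (MulAut.conj g • H).map f = MulAut.conj (f g) • H.map f := by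
  ext y
  constructor
  · rintro ⟨x, hx, rfl⟩
    obtain ⟨z, hz, rfl⟩ := (mem_smul_pointwise_iff_exists x _ H).1 hx
    exact (mem_smul_pointwise_iff_exists _ _ _).2 ⟨f z, mem_map_of_mem f hz, by simp⟩
  · intro hy
    obtain ⟨_, ⟨z, hz, rfl⟩, rfl⟩ := (mem_smul_pointwise_iff_exists y _ _).1 hy
    exact ⟨_, smul_mem_pointwise_smul z (MulAut.conj g) H hz, by simp⟩

theorem mem_conj_smul {g x : G} {H : Subgroup G} :
    x ∈ MulAut.conj g • H ↔ g⁻¹ * x * g ∈ H := by
  simp [mem_pointwise_smul_iff_inv_smul_mem]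

theorem card_conj_smul (g : G) (H : Subgroup G) :
    Nat.card ↥(MulAut.conj g • H) = Nat.card H :=
  (Nat.card_congr (equivSMul (MulAut.conj g) H).toEquiv).symm

theorem index_conj_smul [Finite G] (g : G) (H : Subgroup G) :
    (MulAut.conj g • H).index = H.index := by
  have h1 := card_mul_index (MulAut.conj g • H)
  rw [card_conj_smul, ← card_mul_index H] at h1
  exact Nat.eq_of_mul_eq_mul_left Nat.card_pos h1

theorem conj_smul_mul (g h : G) (H : Subgroup G) :
    MulAut.conj (g * h) • H = MulAut.conj g • MulAut.conj h • H := by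
  rw [map_mul, mul_smul]

theorem card_subgroupOf {H L : Subgroup G} (h : H ≤ L) :
    Nat.card (H.subgroupOf L) = Nat.card H :=
  Nat.card_congr (subgroupOfEquivOfLe h).toEquiv

theorem exists_conj_of_subgroupOf {H K L : Subgroup G} (hH : H ≤ L) (hK : K ≤ L)
    (h : ∃ x : L, MulAut.conj x • H.subgroupOf L = K.subgroupOf L) :
    ∃ g ∈ L, MulAut.conj g • H = K := by
  obtain ⟨x, hx⟩ := h
  refine ⟨x, x.2, ?_⟩
  have := congrArg (Subgroup.map L.subtype) hx
  rwa [map_conj_smul, map_subgroupOf_eq_of_le hH, map_subgroupOf_eq_of_le hK] at this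

theorem eq_of_le_of_card_le [Finite G] {H K : Subgroup G} (h : H ≤ K)
    (hc : Nat.card K ≤ Nat.card H) : H = K :=
  SetLike.coe_injective (Set.eq_of_subset_of_ncard_le h
    (by rw [← Nat.card_coe_set_eq, ← Nat.card_coe_set_eq]; exact hc) (Set.toFinite _))

end Cfsg.Agent.Solvable
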