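import Mathlib.GroupTheory.SchurZassenhaus
import Mathlib.GroupTheory.Sylow
import Cfsg.Agent.Lib.Solvable.Basic
import Cfsg.Agent.Lib.Solvable.Conj

/-!
Hall's theorems for finite solvable groups, in the form "`|G| = m * n` with `m`, `n` coprime".
-/

set_option autoImplicit false

namespace Cfsg.Agent.Solvable

open Subgroup
open scoped Pointwise

variable {G : Type*} [Group G] [Finite G]

/-- A normal subgroup of order prime to `n` lies in every subgroup of order `m`. -/
theorem normal_le_of_card_coprime {m n : ℕ} (hG : Nat.card G = m * n) (H N : Subgroup G)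
    [N.Normal] (hH : Nat.card H = m) (hN : (Nat.card N).Coprime n) (hmn : m.Coprime n) :
    N ≤ H := by
  have h := card_sup_mul_card_inf H N
  rw [hH] at h
  have h1 : Nat.card ↥(H ⊔ N) ∣ m * n := hG ▸ card_subgroup_dvd_card _
  have h2 : (Nat.card ↥(H ⊔ N)).Coprime n :=
    Nat.Coprime.coprime_dvd_left ⟨_, h.symm⟩ (Nat.Coprime.mul_left hmn hN)
  have h3 : H = H ⊔ N := eq_of_le_of_card_le le_sup_left
    (hH ▸ Nat.le_of_dvd (hH ▸ Nat.card_pos) (h2.dvd_of_dvd_mul_right h1))
  rw [h3]; exact le_sup_right

theorem coprime_or_coprime_of_primePow {p d m n : ℕ} (hp : p.Prime) (hmn : m.Coprime n) :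
    (p ^ d).Coprime n ∨ (p ^ d).Coprime m := by
  by_cases h : p ∣ n
  · refine Or.inr (Nat.Coprime.pow_left d ((Nat.Prime.coprime_iff_not_dvd hp).2 fun hm => ?_))
    exact hp.ne_one (Nat.eq_one_of_dvd_coprimes hmn hm h)
  · exact Or.inl (Nat.Coprime.pow_left d ((Nat.Prime.coprime_iff_not_dvd hp).2 h))

/-- Hall's theorem, existence. -/
theorem exists_hall [Group.IsSolvable G] {m n : ℕ} (hG : Nat.card G = m * n) (hmn : m.Coprime n) :
    ∃ H : Subgroup G, Nat.card H = m := by
  induction hk : Nat.card G using Nat.strong_induction_on generalizing G m n with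
  | _ k ih =>
  rcases subsingleton_or_nontrivial G with hs | hs
  · rw [Nat.card_of_subsingleton (1 : G)] at hG
    exact ⟨⊥, by simp [Nat.eq_one_of_mul_eq_one_right hG.symm]⟩
  obtain ⟨N, p, hNn, hN, -, hp, -, -, -, d, -, hd⟩ := exists_minimal_normal_elementary G
  have hpos : 0 < Nat.card N := Nat.card_pos
  have hlt : Nat.card (G ⧸ N) < k := by
    rw [← hk, card_eq_card_quotient_mul_card_subgroup N]
    exact lt_mul_of_one_lt_right Nat.card_pos ((one_lt_card_iff_ne_bot N).2 hN)
  have hdvd : Nat.card N ∣ m * n := hG ▸ card_subgroup_dvd_card N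
  rcases coprime_or_coprime_of_primePow (d := d) hp hmn with h | h <;> rw [← hd] at h
  · obtain ⟨m', rfl⟩ := h.dvd_of_dvd_mul_right hdvd
    have hq : Nat.card (G ⧸ N) = m' * n := by
      have := card_eq_card_quotient_mul_card_subgroup N
      rw [hG] at this
      apply Nat.eq_of_mul_eq_mul_right hpos
      rw [← this]; ring
    obtain ⟨H, hH⟩ := ih _ hlt hq hmn.coprime_mul_left rfl
    exact ⟨H.comap (QuotientGroup.mk' N), by rw [card_comap_mk', hH, mul_comm]⟩
  · obtain ⟨n', rfl⟩ := h.dvd_of_dvd_mul_left hdvd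
    have hq : Nat.card (G ⧸ N) = m * n' := by
      have := card_eq_card_quotient_mul_card_subgroup N
      rw [hG] at this
      apply Nat.eq_of_mul_eq_mul_right hpos
      rw [← this]; ring
    obtain ⟨H, hH⟩ := ih _ hlt hq hmn.coprime_mul_left_right rfl
    set L := H.comap (QuotientGroup.mk' N) with hLdef
    have hL : Nat.card L = m * Nat.card N := by rw [hLdef, card_comap_mk', hH]
    have hNL : N ≤ L := fun x hx => by simp [L, (QuotientGroup.eq_one_iff x).2 hx]
    have hcN : Nat.card (N.subgroupOf L) = Nat.card N := card_subgroupOf hNL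
    have hidx : (N.subgroupOf L).index = m := by
      have := card_mul_index (N.subgroupOf L)
      rw [hcN, hL, mul_comm m] at this
      exact Nat.eq_of_mul_eq_mul_left hpos this
    obtain ⟨C, hC⟩ := exists_right_complement'_of_coprime (N := N.subgroupOf L)
      (by rw [hcN, hidx]; exact h)
    refine ⟨C.map L.subtype, ?_⟩
    rw [card_map_of_injective L.subtype_injective]
    have := hC.card_mul_card
    rw [hcN, hL, mul_comm m] at this
    exact Nat.eq_of_mul_eq_mul_left hpos this

/-- Hall's theorem, conjugacy. -/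
theorem hall_conj [Group.IsSolvable G] {m n : ℕ} (hG : Nat.card G = m * n) (hmn : m.Coprime n)
    (H K : Subgroup G) (hH : Nat.card H = m) (hK : Nat.card K = m) :
    ∃ g : G, MulAut.conj g • H = K := by
  induction hk : Nat.card G using Nat.strong_induction_on generalizing G m n with
  | _ k ih =>
  by_cases hA : ∃ N : Subgroup G, N.Normal ∧ N ≠ ⊥ ∧ (Nat.card N).Coprime n
  · obtain ⟨N, hNn, hN, hco⟩ := hA
    have hpos : 0 < Nat.card N := Nat.card_pos
    have hlt : Nat.card (G ⧸ N) < k := by
      rw [← hk, card_eq_card_quotient_mul_card_subgroup N]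
      exact lt_mul_of_one_lt_right Nat.card_pos ((one_lt_card_iff_ne_bot N).2 hN)
    have hNH : N ≤ H := normal_le_of_card_coprime hG H N hH hco hmn
    have hNK : N ≤ K := normal_le_of_card_coprime hG K N hK hco hmn
    obtain ⟨m', hm'⟩ : Nat.card N ∣ m := hH ▸ card_dvd_of_le hNH
    subst hm'
    have hq : Nat.card (G ⧸ N) = m' * n := by
      have := card_eq_card_quotient_mul_card_subgroup N
      rw [hG] at this
      apply Nat.eq_of_mul_eq_mul_right hpos
      rw [← this]; ring
    have hc : ∀ X : Subgroup G, N ≤ X → Nat.card X = Nat.card N * m' →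
        Nat.card (X.map (QuotientGroup.mk' N)) = m' := fun X hX h => by
      apply Nat.eq_of_mul_eq_mul_right hpos
      rw [card_map_mk'_of_le X N hX, h, mul_comm]
    obtain ⟨q, hq'⟩ := ih _ hlt hq hmn.coprime_mul_left _ _ (hc H hNH hH) (hc K hNK hK) rfl
    obtain ⟨g, rfl⟩ := QuotientGroup.mk'_surjective N q
    rw [← map_conj_smul] at hq'
    have := congrArg (Subgroup.comap (QuotientGroup.mk' N)) hq'
    rw [comap_map_mk', comap_map_mk', sup_eq_left.2 hNK, sup_eq_left.2] at this
    · exact ⟨g, this⟩
    · rw [← Normal.conj_smul_eq_self g N]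
      exact pointwise_smul_le_pointwise_smul_iff.2 hNH
  push Not at hA
  rcases subsingleton_or_nontrivial G with hs | hs
  · exact ⟨1, Subsingleton.elim _ _⟩
  obtain ⟨N, p, hNn, hN, hmin, hp, -, hNab, -, d, -, hd⟩ := exists_minimal_normal_elementary G
  have hpos : 0 < Nat.card N := Nat.card_pos
  have hco : (Nat.card N).Coprime m := by
    rcases coprime_or_coprime_of_primePow (d := d) hp hmn with h | h <;> rw [← hd] at h
    · exact absurd h (hA N hNn hN)
    · exact h
  have hdvd : Nat.card N ∣ m * n := hG ▸ card_subgroup_dvd_card N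
  obtain ⟨n', rfl⟩ := hco.dvd_of_dvd_mul_left hdvd
  have hq : Nat.card (G ⧸ N) = m * n' := by
    have := card_eq_card_quotient_mul_card_subgroup N
    rw [hG] at this
    apply Nat.eq_of_mul_eq_mul_right hpos
    rw [← this]; ring
  have hlt : Nat.card (G ⧸ N) < k := by
    rw [← hk, card_eq_card_quotient_mul_card_subgroup N]
    exact lt_mul_of_one_lt_right Nat.card_pos ((one_lt_card_iff_ne_bot N).2 hN)
  have hinf : ∀ X : Subgroup G, Nat.card X = m → X ⊓ N = ⊥ := fun X h =>
    inf_eq_bot_of_coprime (by rw [h]; exact hco.symm)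
  have hc : ∀ X : Subgroup G, Nat.card X = m →
      Nat.card (X.map (QuotientGroup.mk' N)) = m := fun X h => by
    have := card_map_mk'_mul X N
    rwa [hinf X h, card_bot, mul_one, h] at this
  obtain ⟨q, hq'⟩ := ih _ hlt hq hmn.coprime_mul_left_right _ _ (hc H hH) (hc K hK) rfl
  obtain ⟨g, rfl⟩ := QuotientGroup.mk'_surjective N q
  rw [← map_conj_smul] at hq'
  have hsup := congrArg (Subgroup.comap (QuotientGroup.mk' N)) hq'
  rw [comap_map_mk', comap_map_mk'] at hsup
  suffices h : ∃ x : G, MulAut.conj x • (MulAut.conj g • H) = K by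
    obtain ⟨x, hx⟩ := h
    exact ⟨x * g, by rw [conj_smul_mul, hx]⟩
  have hH' : Nat.card ↥(MulAut.conj g • H) = m := by rw [card_conj_smul, hH]
  revert hH' hsup
  generalize MulAut.conj g • H = H'
  intro hsup hH'
  have hL : Nat.card ↥(K ⊔ N) = m * Nat.card N := by
    have := card_sup_mul_card_inf K N
    rwa [hinf K hK, card_bot, mul_one, hK] at this
  by_cases htop : K ⊔ N = ⊤
  · rw [htop, Subgroup.card_top, hG, ← mul_assoc] at hL
    have hn' : n' = 1 := by
      refine Nat.eq_of_mul_eq_mul_left (Nat.mul_pos (hH ▸ Nat.card_pos : 0 < m) hpos) ?_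
      rw [mul_one]; exact hL
    subst hn'
    rw [mul_one] at hq
    rcases subsingleton_or_nontrivial (G ⧸ N) with hs' | hs'
    · rw [Nat.card_of_subsingleton (1 : G ⧸ N)] at hq
      refine ⟨1, ?_⟩
      rw [map_one, one_smul, card_eq_one.1 (hH'.trans hq.symm), card_eq_one.1 (hK.trans hq.symm)]
    obtain ⟨M', r, hM'n, hM', -, hr, -, -, -, e, -, he⟩ :=
      exists_minimal_normal_elementary (G ⧸ N)
    have hMn := hM'n.comap (QuotientGroup.mk' N)
    set M := M'.comap (QuotientGroup.mk' N) with hMdef
    have hM : Nat.card M = r ^ e * Nat.card N := by rw [hMdef, card_comap_mk', he]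
    have hrm : r ^ e ∣ m := by rw [← he, ← hq]; exact card_subgroup_dvd_card M'
    have hNM : N ≤ M := fun x hx => by simp [M, (QuotientGroup.eq_one_iff x).2 hx]
    have htH : H' ⊔ N = ⊤ := hsup.trans htop
    have hmeet : ∀ X : Subgroup G, Nat.card X = m → X ⊔ N = ⊤ →
        Nat.card ↥(X ⊓ M) = r ^ e := by
      intro X hX hXN
      have h := card_sup_mul_card_inf X M
      have hXM : X ⊔ M = ⊤ := eq_top_iff.2 (hXN ▸ sup_le_sup_left hNM X)
      rw [hXM, Subgroup.card_top, hG, hX, hM,
        mul_one] at h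
      apply Nat.eq_of_mul_eq_mul_left (Nat.mul_pos (hH ▸ Nat.card_pos : 0 < m) hpos)
      rw [h]; ring
    have : Fact r.Prime := ⟨hr⟩
    have hQ : ∀ X : Subgroup G, Nat.card X = m → X ⊔ N = ⊤ →
        Nat.card ((X ⊓ M).subgroupOf M) = r ^ (Nat.card M).factorization r := by
      intro X hX hXN
      rw [card_subgroupOf inf_le_right, hmeet X hX hXN, hM,
        Nat.factorization_mul (pow_ne_zero _ hr.ne_zero) hpos.ne']
      have h0 : (Nat.card N).factorization r = 0 := by
        rcases Nat.eq_zero_or_pos e with h | h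
        · rw [h, pow_zero] at he
          exact absurd (card_eq_one.1 he) hM'
        · apply Nat.factorization_eq_zero_of_not_dvd
          intro hdiv
          exact hr.ne_one (Nat.eq_one_of_dvd_coprimes hco hdiv
            ((dvd_pow_self r h.ne').trans hrm))
      simp [h0, hr.factorization_self]
    obtain ⟨x, hx⟩ := MulAction.exists_smul_eq M (Sylow.ofCard _ (hQ H' hH' htH))
      (Sylow.ofCard _ (hQ K hK htop))
    have hx' := congrArg (fun P : Sylow r M => (P : Subgroup M)) hx
    simp only [Sylow.coe_subgroup_smul, Sylow.coe_ofCard] at hx'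
    have hx'' := congrArg (Subgroup.map M.subtype) hx'
    rw [map_conj_smul, map_subgroupOf_eq_of_le inf_le_right,
      map_subgroupOf_eq_of_le inf_le_right, smul_inf, Normal.conj_smul_eq_self _ M (h := hMn)] at hx''
    change MulAut.conj (x : G) • H' ⊓ M = K ⊓ M at hx''
    refine ⟨(x : G), ?_⟩
    set H'' := MulAut.conj (x : G) • H' with hH''def
    have hH'' : Nat.card H'' = m := by rw [hH''def, card_conj_smul, hH']
    have hnorm : ∀ X : Subgroup G, X ≤ normalizer ((X ⊓ M : Subgroup G) : Set G) := by
      intro X y hy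
      rw [mem_normalizer_iff]
      intro z
      constructor
      · rintro ⟨h1, h2⟩
        exact ⟨X.mul_mem (X.mul_mem hy h1) (X.inv_mem hy), Normal.conj_mem hMn z h2 y⟩
      · rintro ⟨h1, h2⟩
        refine ⟨?_, ?_⟩
        · simpa [mul_assoc] using X.mul_mem (X.mul_mem (X.inv_mem hy) h1) hy
        · simpa [mul_assoc] using Normal.conj_mem hMn _ h2 y⁻¹
    set R := normalizer ((K ⊓ M : Subgroup G) : Set G) with hR
    have hKR : K ≤ R := hnorm K
    have hHR : H'' ≤ R := by rw [hR, ← hx'']; exact hnorm H''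
    have hRN : N ⊔ R = ⊤ := by
      rw [eq_top_iff, ← htop, sup_comm K N]; exact sup_le_sup_left hKR N
    have hRtop : R ≠ ⊤ := by
      intro h
      have hn : (K ⊓ M).Normal := normalizer_eq_top_iff.1 h
      refine hA _ hn ?_ ?_
      · intro hb
        have := hmeet K hK htop
        rw [hb, card_bot, ← he] at this
        exact hM' (card_eq_one.1 this.symm)
      · rw [hmeet K hK htop]; exact Nat.Coprime.coprime_dvd_left hrm hmn
    have hbot := inf_eq_bot_of_minimal_normal N R hmin hRN hRtop
    have hRc : Nat.card R = m := by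
      have := card_sup_mul_card_inf R N
      rw [inf_comm, hbot, card_bot, mul_one, sup_comm, hRN, Subgroup.card_top, hG,
        mul_one] at this
      exact Nat.eq_of_mul_eq_mul_right hpos this.symm
    rw [eq_of_le_of_card_le hHR (hRc.trans hH''.symm).le,
      eq_of_le_of_card_le hKR (hRc.trans hK.symm).le]
  · have hHL : H' ≤ K ⊔ N := hsup ▸ le_sup_left
    have hltL : Nat.card ↥(K ⊔ N) < k := by
      rw [← hk]
      refine lt_of_le_of_ne (card_le_card_group _) fun h => htop ?_
      exact (card_eq_iff_eq_top _).1 h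
    obtain ⟨x, -, hx⟩ := exists_conj_of_subgroupOf hHL le_sup_left
      (ih _ hltL hL hco.symm _ _ (by rw [card_subgroupOf hHL, hH'])
        (by rw [card_subgroupOf le_sup_left, hK]) rfl)
    exact ⟨x, hx⟩

/-- Hall's theorem, containment: every subgroup of order prime to `n` lies in a conjugate of a
given subgroup of order `m`. -/
theorem le_conj_hall [Group.IsSolvable G] {m n : ℕ} (hG : Nat.card G = m * n) (hmn : m.Coprime n)
    (H K : Subgroup G) (hH : Nat.card H = m) (hK : (Nat.card K).Coprime n) :
    ∃ g : G, K ≤ MulAut.conj g • H := by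
  induction hk : Nat.card G using Nat.strong_induction_on generalizing G m n with
  | _ k ih =>
  rcases subsingleton_or_nontrivial G with hs | hs
  · exact ⟨1, fun x hx => by simpa [Subsingleton.elim x 1] using one_mem _⟩
  obtain ⟨N, p, hNn, hN, -, hp, -, -, -, d, -, hd⟩ := exists_minimal_normal_elementary G
  have hpos : 0 < Nat.card N := Nat.card_pos
  have hlt : Nat.card (G ⧸ N) < k := by
    rw [← hk, card_eq_card_quotient_mul_card_subgroup N]
    exact lt_mul_of_one_lt_right Nat.card_pos ((one_lt_card_iff_ne_bot N).2 hN)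
  have hdvd : Nat.card N ∣ m * n := hG ▸ card_subgroup_dvd_card N
  rcases coprime_or_coprime_of_primePow (d := d) hp hmn with h | h <;> rw [← hd] at h
  · have hNH : N ≤ H := normal_le_of_card_coprime hG H N hH h hmn
    obtain ⟨m', rfl⟩ := h.dvd_of_dvd_mul_right hdvd
    have hq : Nat.card (G ⧸ N) = m' * n := by
      have := card_eq_card_quotient_mul_card_subgroup N
      rw [hG] at this
      apply Nat.eq_of_mul_eq_mul_right hpos
      rw [← this]; ring
    have hH' : Nat.card (H.map (QuotientGroup.mk' N)) = m' := by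
      apply Nat.eq_of_mul_eq_mul_right hpos
      rw [card_map_mk'_of_le H N hNH, hH, mul_comm]
    obtain ⟨q, hq'⟩ := ih _ hlt hq hmn.coprime_mul_left _ (K.map (QuotientGroup.mk' N)) hH'
      (hK.coprime_dvd_left (Subgroup.card_map_dvd _ (QuotientGroup.mk' N))) rfl
    obtain ⟨g, rfl⟩ := QuotientGroup.mk'_surjective N q
    rw [← map_conj_smul] at hq'
    refine ⟨g, le_trans le_sup_left (?_ : K ⊔ N ≤ _)⟩
    rw [← comap_map_mk']
    refine (comap_mono hq').trans (le_of_eq ?_)
    rw [comap_map_mk', sup_eq_left]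
    rw [← Normal.conj_smul_eq_self g N]
    exact pointwise_smul_le_pointwise_smul_iff.2 hNH
  · obtain ⟨n', rfl⟩ := h.dvd_of_dvd_mul_left hdvd
    have hq : Nat.card (G ⧸ N) = m * n' := by
      have := card_eq_card_quotient_mul_card_subgroup N
      rw [hG] at this
      apply Nat.eq_of_mul_eq_mul_right hpos
      rw [← this]; ring
    have hinf : ∀ X : Subgroup G, (Nat.card X).Coprime (Nat.card N) → X ⊓ N = ⊥ := fun X hX =>
      inf_eq_bot_of_coprime hX
    have hH' : Nat.card (H.map (QuotientGroup.mk' N)) = m := by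
      have := card_map_mk'_mul H N
      rwa [hinf H (hH ▸ h.symm), card_bot, mul_one, hH] at this
    obtain ⟨q, hq'⟩ := ih _ hlt hq hmn.coprime_mul_left_right _ (K.map (QuotientGroup.mk' N)) hH'
      (hK.coprime_mul_left_right.coprime_dvd_left (Subgroup.card_map_dvd _ (QuotientGroup.mk' N))) rfl
    obtain ⟨g, rfl⟩ := QuotientGroup.mk'_surjective N q
    rw [← map_conj_smul] at hq'
    have hle := comap_mono (f := QuotientGroup.mk' N) hq'
    rw [comap_map_mk', comap_map_mk'] at hle
    suffices hs : ∃ x : G, K ≤ MulAut.conj x • (MulAut.conj g • H) by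
      obtain ⟨x, hx⟩ := hs
      exact ⟨x * g, by rwa [conj_smul_mul]⟩
    have hH'' : Nat.card ↥(MulAut.conj g • H) = m := by rw [card_conj_smul, hH]
    revert hH'' hle
    generalize MulAut.conj g • H = H''
    intro hle hH''
    -- the subgroup `T` is a complement to `N` in `K ⊔ N` lying in `H''`
    set T := (K ⊔ N) ⊓ H'' with hT
    have hTN : T ⊔ N = K ⊔ N := by
      refine le_antisymm (sup_le inf_le_left le_sup_right) fun y hy => ?_
      have hy' := hle hy
      rw [mem_sup_of_normal_right] at hy'
      obtain ⟨a, ha, b, hb, rfl⟩ := hy'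
      refine mul_mem (mem_sup_left ⟨?_, ha⟩) (mem_sup_right hb)
      simpa using mul_mem hy (mem_sup_right (inv_mem hb) : b⁻¹ ∈ K ⊔ N)
    have hKN : (Nat.card K).Coprime (Nat.card N) := hK.coprime_mul_right_right
    have hTd : Nat.card T ∣ m := hH'' ▸ card_dvd_of_le inf_le_right
    have hTc : Nat.card T = Nat.card K := by
      have h1 := card_sup_mul_card_inf T N
      have h2 := card_sup_mul_card_inf K N
      rw [hinf T (h.symm.coprime_dvd_left hTd), card_bot, mul_one, hTN] at h1
      rw [hinf K hKN, card_bot, mul_one, h1] at h2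
      exact Nat.eq_of_mul_eq_mul_right hpos h2
    have hS : Nat.card ↥(K ⊔ N) = Nat.card K * Nat.card N := by
      have := card_sup_mul_card_inf K N
      rwa [hinf K hKN, card_bot, mul_one] at this
    obtain ⟨x, -, hx⟩ := exists_conj_of_subgroupOf (inf_le_left : T ≤ K ⊔ N) le_sup_left
      (hall_conj hS hKN _ _ (by rw [card_subgroupOf inf_le_left, hTc])
        (by rw [card_subgroupOf le_sup_left]))
    refine ⟨x, hx.symm.le.trans ?_⟩
    exact pointwise_smul_le_pointwise_smul_iff.2 inf_le_right

/-- Hall's theorem: every subgroup of order prime to `n` lies in a subgroup of order `m`. -/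
theorem exists_hall_ge [Group.IsSolvable G] {m n : ℕ} (hG : Nat.card G = m * n)
    (hmn : m.Coprime n) (K : Subgroup G) (hK : (Nat.card K).Coprime n) :
    ∃ H : Subgroup G, Nat.card H = m ∧ K ≤ H := by
  obtain ⟨H, hH⟩ := exists_hall hG hmn
  obtain ⟨g, hg⟩ := le_conj_hall hG hmn H K hH hK
  exact ⟨_, by rw [card_conj_smul, hH], hg⟩

end Cfsg.Agent.Solvable
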