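import Cfsg.Prelude.Def_OddOrderLocal
import Cfsg.Agent.Lib.Solvable.Hall

/-!
Hall's theorems for finite solvable groups, in terms of a set of primes `π`.
-/

set_option autoImplicit false

namespace Cfsg.Agent.Solvable

open Subgroup
open scoped Pointwise

/-- The split of a positive natural number into its `π`-part and `π'`-part. -/
theorem exists_pi_split (π : Set ℕ) {k : ℕ} (hk : k ≠ 0) :
    ∃ m n : ℕ, k = m * n ∧ m.Coprime n ∧ (∀ p : ℕ, p.Prime → p ∣ m → p ∈ π) ∧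
      (∀ p : ℕ, p.Prime → p ∈ π → ¬ p ∣ n) := by
  classical
  induction k using Nat.recOnMul with
  | zero => exact absurd rfl hk
  | one => exact ⟨1, 1, rfl, Nat.coprime_one_left 1,
      fun p hp h => absurd (Nat.dvd_one.1 h) hp.ne_one,
      fun p hp _ h => absurd (Nat.dvd_one.1 h) hp.ne_one⟩
  | prime q hq =>
    by_cases hqπ : q ∈ π
    · exact ⟨q, 1, (mul_one q).symm, Nat.coprime_one_right q,
        fun p hp h => (Nat.prime_dvd_prime_iff_eq hp hq).1 h ▸ hqπ,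
        fun p hp _ h => absurd (Nat.dvd_one.1 h) hp.ne_one⟩
    · exact ⟨1, q, (one_mul q).symm, Nat.coprime_one_left q,
        fun p hp h => absurd (Nat.dvd_one.1 h) hp.ne_one,
        fun p hp hpπ h => hqπ ((Nat.prime_dvd_prime_iff_eq hp hq).1 h ▸ hpπ)⟩
  | mul a b iha ihb =>
    obtain ⟨m₁, n₁, rfl, h1, h2, h3⟩ := iha (left_ne_zero_of_mul hk)
    obtain ⟨m₂, n₂, rfl, h4, h5, h6⟩ := ihb (right_ne_zero_of_mul hk)
    have hm : ∀ p : ℕ, p.Prime → p ∣ m₁ * m₂ → p ∈ π := fun p hp h =>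
      (hp.dvd_mul.1 h).elim (h2 p hp) (h5 p hp)
    have hn : ∀ p : ℕ, p.Prime → p ∈ π → ¬ p ∣ n₁ * n₂ := fun p hp hπ h =>
      (hp.dvd_mul.1 h).elim (h3 p hp hπ) (h6 p hp hπ)
    exact ⟨m₁ * m₂, n₁ * n₂, by ring, Nat.coprime_of_dvd fun p hp a b => hn p hp (hm p hp a) b,
      hm, hn⟩

theorem coprime_card_index_of_isPiHall {G : Type*} [Group G] {π : Set ℕ} {H : Subgroup G}
    (h : Cfsg.IsPiHall π H) : (Nat.card H).Coprime H.index :=
  Nat.coprime_of_dvd fun p hp a b => h.2 p hp (h.1 p hp a) b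

variable {G : Type*} [Group G] [Finite G]

theorem exists_isPiHall [Group.IsSolvable G] (π : Set ℕ) :
    ∃ H : Subgroup G, Cfsg.IsPiHall π H := by
  obtain ⟨m, n, hmn, hco, h1, h2⟩ := exists_pi_split π (Nat.card_pos (α := G)).ne'
  obtain ⟨H, hH⟩ := exists_hall hmn hco
  refine ⟨H, fun p hp h => h1 p hp (hH ▸ h), fun p hp hπ h => h2 p hp hπ ?_⟩
  have := H.card_mul_index
  rw [hH, hmn] at this
  rwa [Nat.eq_of_mul_eq_mul_left (hH ▸ Nat.card_pos : 0 < m) this] at h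

theorem card_eq_of_isPiHall {π : Set ℕ} {H K : Subgroup G} (hH : Cfsg.IsPiHall π H)
    (hK : Cfsg.IsPiHall π K) : Nat.card H = Nat.card K := by
  have h : ∀ A B : Subgroup G, Cfsg.IsPiHall π A → Cfsg.IsPiHall π B →
      Nat.card A ∣ Nat.card B := fun A B hA hB => by
    refine Nat.Coprime.dvd_of_dvd_mul_right
      (Nat.coprime_of_dvd fun p hp a b => hB.2 p hp (hA.1 p hp a) b)
      (?_ : Nat.card A ∣ Nat.card B * B.index)
    rw [B.card_mul_index]; exact card_subgroup_dvd_card A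
  exact Nat.dvd_antisymm (h H K hH hK) (h K H hK hH)

theorem isPiHall_conj_smul {π : Set ℕ} {H : Subgroup G} (hH : Cfsg.IsPiHall π H) (g : G) :
    Cfsg.IsPiHall π (MulAut.conj g • H) := by
  unfold Cfsg.IsPiHall
  rw [card_conj_smul, index_conj_smul]
  exact hH

theorem isPiHall_conj [Group.IsSolvable G] {π : Set ℕ} {H K : Subgroup G}
    (hH : Cfsg.IsPiHall π H) (hK : Cfsg.IsPiHall π K) : ∃ g : G, MulAut.conj g • H = K :=
  hall_conj H.card_mul_index.symm (coprime_card_index_of_isPiHall hH) H K rfl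
    (card_eq_of_isPiHall hH hK).symm

theorem le_conj_isPiHall [Group.IsSolvable G] {π : Set ℕ} {H : Subgroup G}
    (hH : Cfsg.IsPiHall π H) (K : Subgroup G)
    (hK : ∀ p : ℕ, p.Prime → p ∣ Nat.card K → p ∈ π) : ∃ g : G, K ≤ MulAut.conj g • H :=
  le_conj_hall H.card_mul_index.symm (coprime_card_index_of_isPiHall hH) H K rfl
    (Nat.coprime_of_dvd fun p hp a b => hH.2 p hp (hK p hp a) b)

theorem exists_isPiHall_ge [Group.IsSolvable G] {π : Set ℕ} (K : Subgroup G)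
    (hK : ∀ p : ℕ, p.Prime → p ∣ Nat.card K → p ∈ π) :
    ∃ H : Subgroup G, Cfsg.IsPiHall π H ∧ K ≤ H := by
  obtain ⟨H, hH⟩ := exists_isPiHall (G := G) π
  obtain ⟨g, hg⟩ := le_conj_isPiHall hH K hK
  exact ⟨_, isPiHall_conj_smul hH g, hg⟩

end Cfsg.Agent.Solvable
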