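import Mathlib.GroupTheory.GroupAction.Primitive
import Mathlib.GroupTheory.Subgroup.Centralizer
import Mathlib.GroupTheory.Complement
import Cfsg.Agent.Lib.Solvable.Hall

/-!
Maximal subgroups with trivial core, and maximal subgroups of finite solvable groups.
-/

set_option autoImplicit false

namespace Cfsg.Agent.Solvable

open Subgroup
open scoped Pointwise

variable {G : Type*} [Group G]

theorem sup_eq_top_of_coatom {U : Subgroup G} (hU : IsCoatom U) {N : Subgroup G} (h : ¬ N ≤ U) :
    N ⊔ U = ⊤ :=
  hU.2 _ (lt_of_le_of_ne le_sup_right fun he => h (he ▸ le_sup_left))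

theorem not_le_of_normalCore_eq_bot {U : Subgroup G} (hc : U.normalCore = ⊥) {N : Subgroup G}
    [N.Normal] (hN : N ≠ ⊥) : ¬ N ≤ U := fun h =>
  hN (eq_bot_iff.2 (hc ▸ normal_le_normalCore.2 h))

theorem isComplement'_of_normal_sup_inf {N U : Subgroup G} [N.Normal] (hinf : N ⊓ U = ⊥)
    (hsup : N ⊔ U = ⊤) : IsComplement' N U := by
  refine isComplement'_of_disjoint_and_mul_eq_univ (disjoint_iff.2 hinf) ?_
  rw [← normal_mul, hsup, coe_top]

/-- Two subgroups meeting a normal subgroup `A` trivially and having the same join with `A` are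
isomorphic. -/
theorem nonempty_mulEquiv_of_sup_eq {A X Y : Subgroup G} [A.Normal] (hX : X ⊓ A = ⊥)
    (hY : Y ⊓ A = ⊥) (h : X ⊔ A = Y ⊔ A) : Nonempty (X ≃* Y) := by
  have hinj : ∀ Z : Subgroup G, Z ⊓ A = ⊥ →
      Function.Injective ((QuotientGroup.mk' A).comp Z.subtype) := by
    intro Z hZ
    rw [injective_iff_map_eq_one]
    intro z hz
    have : (z : G) ∈ Z ⊓ A := ⟨z.2, (QuotientGroup.eq_one_iff _).1 hz⟩
    rw [hZ, mem_bot] at this
    exact Subtype.ext this
  have hr : ((QuotientGroup.mk' A).comp X.subtype).range =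
      ((QuotientGroup.mk' A).comp Y.subtype).range := by
    rw [MonoidHom.range_comp, MonoidHom.range_comp, range_subtype, range_subtype,
      map_eq_map_iff, QuotientGroup.ker_mk', h]
  exact ⟨((MonoidHom.ofInjective (hinj X hX)).trans (MulEquiv.subgroupCongr hr)).trans
    (MonoidHom.ofInjective (hinj Y hY)).symm⟩

theorem isCoatom_conj_smul {U : Subgroup G} (hU : IsCoatom U) (x : G) :
    IsCoatom (MulAut.conj x • U) := by
  refine ⟨fun h => hU.1 (smul_left_cancel (MulAut.conj x)
    (h.trans (Normal.conj_smul_eq_self x ⊤).symm)), fun X hX => ?_⟩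
  have h1 : U < (MulAut.conj x)⁻¹ • X := lt_iff_le_not_ge.2
    ⟨pointwise_smul_subset_iff.1 hX.le, fun h => hX.not_ge (subset_pointwise_smul_iff.2 h)⟩
  rw [← smul_inv_smul (MulAut.conj x) X, hU.2 _ h1, Normal.conj_smul_eq_self]

/-- The centralizer of a nontrivial normal subgroup meets a core-free maximal subgroup
trivially. -/
theorem centralizer_inf_eq_bot {U : Subgroup G} (hU : IsCoatom U) (hc : U.normalCore = ⊥)
    (N : Subgroup G) [N.Normal] (hN : N ≠ ⊥) : centralizer (N : Set G) ⊓ U = ⊥ := by
  have hnU := not_le_of_normalCore_eq_bot hc hN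
  have hn : (centralizer (N : Set G) ⊓ U).Normal := by
    rw [← normalizer_eq_top_iff, eq_top_iff, ← sup_eq_top_of_coatom hU hnU]
    refine sup_le ?_ ?_
    · refine le_trans ?_ (centralizer_le_normalizer _)
      intro x hx y hy
      exact ((mem_centralizer_iff.1 hy.1) x hx).symm
    · intro x hx
      rw [mem_normalizer_iff]
      intro y
      constructor
      · rintro ⟨h1, h2⟩
        exact ⟨Normal.conj_mem inferInstance y h1 x, U.mul_mem (U.mul_mem hx h2) (U.inv_mem hx)⟩
      · rintro ⟨h1, h2⟩
        refine ⟨?_, ?_⟩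
        · simpa [mul_assoc] using
            Normal.conj_mem (inferInstance : (centralizer (N : Set G)).Normal) _ h1 x⁻¹
        · simpa [mul_assoc] using U.mul_mem (U.mul_mem (U.inv_mem hx) h2) hx
  by_contra h
  exact not_le_of_normalCore_eq_bot hc h inf_le_right

theorem eq_centralizer_of_normal_le {U : Subgroup G} (hU : IsCoatom U) (hc : U.normalCore = ⊥)
    (N : Subgroup G) [N.Normal] (hN : N ≠ ⊥) {K : Subgroup G} [K.Normal] (hK : K ≠ ⊥)
    (hKC : K ≤ centralizer (N : Set G)) : K = centralizer (N : Set G) := by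
  refine le_antisymm hKC fun x hx => ?_
  have hx' : x ∈ K ⊔ U := by
    rw [sup_eq_top_of_coatom hU (not_le_of_normalCore_eq_bot hc hK)]; exact mem_top x
  rw [mem_sup_of_normal_left] at hx'
  obtain ⟨k, hk, u, hu, rfl⟩ := hx'
  have : u ∈ centralizer (N : Set G) ⊓ U :=
    ⟨by simpa using mul_mem (inv_mem (hKC hk)) hx, hu⟩
  rw [centralizer_inf_eq_bot hU hc N hN, mem_bot] at this
  simpa [this] using hk

theorem centralizer_eq_self_of_abelian {U : Subgroup G} (hU : IsCoatom U) (hc : U.normalCore = ⊥)
    (N : Subgroup G) [N.Normal] [IsMulCommutative N] (hN : N ≠ ⊥) :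
    centralizer (N : Set G) = N :=
  (eq_centralizer_of_normal_le hU hc N hN hN (le_centralizer N)).symm

theorem isComplement'_of_abelian_minimal {U : Subgroup G} (hU : IsCoatom U) (hc : U.normalCore = ⊥)
    (N : Subgroup G) [N.Normal] [IsMulCommutative N] (hN : N ≠ ⊥) :
    IsComplement' N U := by
  refine isComplement'_of_normal_sup_inf ?_
    (sup_eq_top_of_coatom hU (not_le_of_normalCore_eq_bot hc hN))
  rw [eq_bot_iff, ← centralizer_inf_eq_bot hU hc N hN]
  exact inf_le_inf_right _ (le_centralizer N)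

/-- The index of a maximal subgroup of a finite solvable group is a prime power. -/
theorem exists_index_maximal_eq_pow [Finite G] [Group.IsSolvable G] {M : Subgroup G}
    (hM : IsCoatom M) :
    ∃ p k : ℕ, p.Prime ∧ 0 < k ∧ M.index = p ^ k := by
  have : M.normalCore.Normal := normalCore_normal M
  set π := QuotientGroup.mk' M.normalCore
  have hker : π.ker ≤ M := by rw [QuotientGroup.ker_mk']; exact normalCore_le M
  have hsurj : Function.Surjective π := QuotientGroup.mk'_surjective _
  have hidx : (M.map π).index = M.index := index_map_eq M hsurj hker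
  have hcomap : (M.map π).comap π = M := comap_map_eq_self hker
  have hMM : IsCoatom (M.map π) := by
    refine ⟨fun h => hM.1 (by rw [← hcomap, h, comap_top]), fun X hX => ?_⟩
    have hlt : M < X.comap π := by
      refine lt_of_le_of_ne ?_ ?_
      · exact hcomap.symm.le.trans (comap_mono hX.le)
      · intro he
        exact hX.ne ((congrArg (Subgroup.map π) he).trans
          (map_comap_eq_self_of_surjective hsurj X))
    rw [← map_comap_eq_self_of_surjective hsurj X, hM.2 _ hlt, map_top_of_surjective π hsurj]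
  have hcore : (M.map π).normalCore = ⊥ := by
    have hle : (M.map π).normalCore.comap π ≤ M.normalCore := by
      refine normal_le_normalCore.2 ?_
      calc _ ≤ (M.map π).comap π := comap_mono (normalCore_le _)
        _ = M := hcomap
    rw [eq_bot_iff, ← map_comap_eq_self_of_surjective hsurj (M.map π).normalCore]
    refine (map_mono hle).trans (le_of_eq ?_)
    rw [Subgroup.map_eq_bot_iff, QuotientGroup.ker_mk']
  have : Nontrivial (G ⧸ M.normalCore) := by
    by_contra h
    rw [not_nontrivial_iff_subsingleton] at h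
    exact hMM.1 (Subsingleton.elim _ _)
  obtain ⟨N, p, hNn, hN, -, hp, -, hNab, -, d, hd0, hd⟩ :=
    exists_minimal_normal_elementary (G ⧸ M.normalCore)
  refine ⟨p, d, hp, hd0, ?_⟩
  rw [← hidx, (isComplement'_of_abelian_minimal hMM hcore N hN).index_eq_card, hd]

/-- Core-free maximal subgroups of a finite solvable group are conjugate. -/
theorem corefree_maximal_conj [Finite G] [Group.IsSolvable G] (U V : Subgroup G) (hU : IsCoatom U)
    (hV : IsCoatom V) (hUc : U.normalCore = ⊥) (hVc : V.normalCore = ⊥) :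
    ∃ g : G, MulAut.conj g • U = V := by
  have : Nontrivial G := by
    by_contra h
    rw [not_nontrivial_iff_subsingleton] at h
    exact hU.1 (Subsingleton.elim _ _)
  obtain ⟨N, p, hNn, hN, -, hp, hNp, hNab, -, d, hd0, hd⟩ := exists_minimal_normal_elementary G
  have hCN := centralizer_eq_self_of_abelian hU hUc N hN
  have hUN := isComplement'_of_abelian_minimal hU hUc N hN
  have hVN := isComplement'_of_abelian_minimal hV hVc N hN
  rcases subsingleton_or_nontrivial (G ⧸ N) with hs | hs
  · have hN1 : N = ⊤ := by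
      ext x
      exact ⟨fun _ => mem_top x, fun _ => (QuotientGroup.eq_one_iff x).1 (Subsingleton.elim _ _)⟩
    subst hN1
    exact ⟨1, by rw [map_one, one_smul, isComplement'_top_left.1 hUN,
      isComplement'_top_left.1 hVN]⟩
  obtain ⟨M', r, hM'n, hM', -, hr, -, -, -, e, he0, he⟩ :=
    exists_minimal_normal_elementary (G ⧸ N)
  have hMn := hM'n.comap (QuotientGroup.mk' N)
  set M := M'.comap (QuotientGroup.mk' N) with hMdef
  have hM : Nat.card M = r ^ e * Nat.card N := by rw [hMdef, card_comap_mk', he]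
  have hNM : N ≤ M := fun x hx => by simp [M, (QuotientGroup.eq_one_iff x).2 hx]
  have hr' : r ≠ p := by
    rintro rfl
    have : Fact r.Prime := ⟨hp⟩
    have hMp : IsPGroup r M := IsPGroup.of_card (n := e + d) (by rw [hM, hd, pow_add])
    have hMb : M ≠ ⊥ := fun h => hN (eq_bot_iff.2 (h ▸ hNM))
    have : Nontrivial M := (nontrivial_iff_ne_bot M).2 hMb
    have hz : (center M).map M.subtype ≠ ⊥ := by
      rw [ne_eq, map_eq_bot_iff_of_injective _ M.subtype_injective]
      have := hMp.center_nontrivial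
      exact (nontrivial_iff_ne_bot _).1 this
    have hzc : (center M).map M.subtype ≤ centralizer (M : Set G) := by
      rintro _ ⟨z, hz, rfl⟩ y hy
      exact congrArg Subtype.val (mem_center_iff.1 hz ⟨y, hy⟩)
    have hcM : centralizer (M : Set G) ≠ ⊥ := fun h => hz (eq_bot_iff.2 (h ▸ hzc))
    have hcN : centralizer (M : Set G) = centralizer (N : Set G) :=
      eq_centralizer_of_normal_le hU hUc N hN hcM (centralizer_le hNM)
    rw [hCN] at hcN
    have hMN : M ≤ centralizer (N : Set G) := le_centralizer_iff.1 hcN.ge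
    rw [hCN] at hMN
    refine hM' ?_
    rw [← map_comap_eq_self_of_surjective (QuotientGroup.mk'_surjective N) M', Subgroup.map_eq_bot_iff,
      QuotientGroup.ker_mk']
    exact hMN
  have hco : (r ^ e).Coprime (Nat.card N) := by
    rw [hd]; exact Nat.Coprime.pow _ _ ((Nat.coprime_primes hr hp).2 hr')
  have hmeet : ∀ X : Subgroup G, IsComplement' N X → Nat.card ↥(X ⊓ M) = r ^ e := by
    intro X hX
    have h := card_sup_mul_card_inf X M
    have hXM : X ⊔ M = ⊤ := by
      rw [eq_top_iff, ← hX.sup_eq_top, sup_comm X M]; exact sup_le_sup_right hNM X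
    rw [hXM, Subgroup.card_top, ← hX.card_mul_card, hM] at h
    have hpos : 0 < Nat.card N * Nat.card X := Nat.mul_pos Nat.card_pos Nat.card_pos
    apply Nat.eq_of_mul_eq_mul_left hpos
    rw [h]; ring
  obtain ⟨x, -, hx⟩ := exists_conj_of_subgroupOf (inf_le_right : U ⊓ M ≤ M) inf_le_right
    (hall_conj hM hco ((U ⊓ M).subgroupOf M) ((V ⊓ M).subgroupOf M)
      (by rw [card_subgroupOf inf_le_right, hmeet U hUN])
      (by rw [card_subgroupOf inf_le_right, hmeet V hVN]))
  rw [smul_inf, Normal.conj_smul_eq_self _ M (h := hMn)] at hx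
  refine ⟨x, ?_⟩
  set Q := V ⊓ M with hQ
  have hnorm : ∀ X : Subgroup G, X ⊓ M = Q → X ≤ normalizer (Q : Set G) := by
    intro X hXQ y hy
    rw [← hXQ, mem_normalizer_iff]
    intro z
    constructor
    · rintro ⟨h1, h2⟩
      exact ⟨X.mul_mem (X.mul_mem hy h1) (X.inv_mem hy), Normal.conj_mem hMn z h2 y⟩
    · rintro ⟨h1, h2⟩
      refine ⟨?_, ?_⟩
      · simpa [mul_assoc] using X.mul_mem (X.mul_mem (X.inv_mem hy) h1) hy
      · simpa [mul_assoc] using Normal.conj_mem hMn _ h2 y⁻¹
  have hne : normalizer (Q : Set G) ≠ ⊤ := by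
    intro h
    have : Q.Normal := normalizer_eq_top_iff.1 h
    refine not_le_of_normalCore_eq_bot hVc (N := Q) ?_ inf_le_left
    intro hb
    have := hmeet V hVN
    rw [← hQ, hb, card_bot] at this
    exact (Nat.one_lt_pow he0.ne' hr.one_lt).ne this
  have hU' : IsCoatom (MulAut.conj x • U) := isCoatom_conj_smul hU x
  have hn : ∀ X : Subgroup G, IsCoatom X → X ⊓ M = Q → normalizer (Q : Set G) = X :=
    fun X hX hXQ => (eq_or_lt_of_le (hnorm X hXQ)).elim Eq.symm (fun h => absurd (hX.2 _ h) hne)
  rw [← hn _ hU' hx, hn V hV rfl]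

section Primitive

variable {Ω : Type*} [MulAction G Ω]

theorem nontrivial_of_faithful [FaithfulSMul G Ω] {M : Subgroup G} (hM : M ≠ ⊥) :
    Nontrivial Ω := by
  by_contra h
  rw [not_nontrivial_iff_subsingleton] at h
  refine hM (eq_bot_iff.2 fun x _ => ?_)
  exact mem_bot.2 (FaithfulSMul.eq_of_smul_eq_smul (α := Ω) fun a => Subsingleton.elim _ _)

theorem normalCore_stabilizer_eq_bot [MulAction.IsPretransitive G Ω] [FaithfulSMul G Ω] (ω : Ω) :
    (MulAction.stabilizer G ω).normalCore = ⊥ := by
  refine eq_bot_iff.2 fun x hx => ?_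
  refine mem_bot.2 (FaithfulSMul.eq_of_smul_eq_smul (α := Ω) fun a => ?_)
  obtain ⟨g, rfl⟩ := MulAction.exists_smul_eq G ω a
  have := MulAction.mem_stabilizer_iff.1 (hx g⁻¹)
  rw [inv_inv, mul_smul, mul_smul] at this
  rw [one_smul]
  exact inv_smul_eq_iff.1 this

end Primitive

end Cfsg.Agent.Solvable
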