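import Mathlib.GroupTheory.Nilpotent
import Mathlib.GroupTheory.SchurZassenhaus
import Mathlib.GroupTheory.IndexNormal
import Cfsg.Prelude.Def_SolvableStructure
import Cfsg.Agent.Lib.Solvable.Basic
import Cfsg.Agent.Lib.Solvable.Maximal

/-!
Finite supersolvable groups.
-/

set_option autoImplicit false

namespace Cfsg.Agent.Solvable

open Subgroup
open scoped Pointwise commutatorElement

universe u v

variable {G : Type u} [Group G]

theorem isSupersolvable_of_subsingleton [Subsingleton G] : Cfsg.IsSupersolvable G :=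
  ⟨0, fun _ => ⊤, Subsingleton.elim _ _, rfl, fun _ => inferInstance, fun i => i.elim0⟩

theorem isSupersolvable_of_surjective {G' : Type v} [Group G'] (f : G →* G')
    (hf : Function.Surjective f) (hG : Cfsg.IsSupersolvable G) : Cfsg.IsSupersolvable G' := by
  obtain ⟨n, H, h0, hl, hn, hs⟩ := hG
  refine ⟨n, fun i => (H i).map f, ?_, ?_, fun i => (hn i).map _ hf, ?_⟩
  · simp [h0]
  · simp only [hl]
    exact Subgroup.map_top_of_surjective _ hf
  · intro i
    obtain ⟨g, hg⟩ := hs i
    exact ⟨f g, by simp only [hg, Subgroup.map_sup, MonoidHom.map_zpowers]⟩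

theorem isSupersolvable_quotient (N : Subgroup G) [N.Normal] (hG : Cfsg.IsSupersolvable G) :
    Cfsg.IsSupersolvable (G ⧸ N) :=
  isSupersolvable_of_surjective _ (QuotientGroup.mk'_surjective N) hG

/-- An extension of a cyclic normal subgroup by a supersolvable group is supersolvable. -/
theorem isSupersolvable_of_cyclic_ker {G' : Type v} [Group G'] (f : G →* G')
    (hf : Function.Surjective f) [IsCyclic f.ker] (hG : Cfsg.IsSupersolvable G') :
    Cfsg.IsSupersolvable G := by
  obtain ⟨n, H, h0, hl, hn, hs⟩ := hG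
  refine ⟨n + 1, Fin.cons ⊥ (fun i => (H i).comap f), Fin.cons_zero _ _, ?_, ?_, ?_⟩
  · rw [← Fin.succ_last, Fin.cons_succ, hl, comap_top]
  · intro i
    induction i using Fin.cases with
    | zero => rw [Fin.cons_zero]; infer_instance
    | succ i => rw [Fin.cons_succ]; exact (hn i).comap f
  · intro i
    induction i using Fin.cases with
    | zero =>
      obtain ⟨g, hg⟩ := (Subgroup.isCyclic_iff_exists_zpowers_eq_top f.ker).1 inferInstance
      refine ⟨g, ?_⟩
      rw [Fin.cons_succ, Fin.castSucc_zero, Fin.cons_zero, bot_sup_eq, h0,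
        MonoidHom.comap_bot, hg]
    | succ i =>
      obtain ⟨g', hg⟩ := hs i
      obtain ⟨g, rfl⟩ := hf g'
      refine ⟨g, ?_⟩
      rw [Fin.cons_succ, ← Fin.succ_castSucc, Fin.cons_succ]
      have hk : f.ker ≤ (H i.castSucc).comap f := fun x hx => by
        rw [mem_comap, MonoidHom.mem_ker.1 hx]; exact one_mem _
      rw [← comap_map_eq_self (H := (H i.castSucc).comap f ⊔ zpowers g) (hk.trans le_sup_left),
        Subgroup.map_sup, map_comap_eq_self_of_surjective hf, MonoidHom.map_zpowers, hg]

theorem isSupersolvable_of_cyclic_normal (N : Subgroup G) [N.Normal] [hc : IsCyclic N]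
    (h : Cfsg.IsSupersolvable (G ⧸ N)) : Cfsg.IsSupersolvable G := by
  have : IsCyclic (QuotientGroup.mk' N).ker := by rw [QuotientGroup.ker_mk']; exact hc
  exact isSupersolvable_of_cyclic_ker _ (QuotientGroup.mk'_surjective N) h

theorem isCyclic_subgroup_of_le {A B : Subgroup G} (h : A ≤ B) [IsCyclic B] : IsCyclic A :=
  isCyclic_of_injective (inclusion h) (inclusion_injective h)

/-- A nontrivial finite supersolvable group has a normal subgroup of prime order. -/
theorem exists_normal_prime_card [Finite G] [Nontrivial G] (hG : Cfsg.IsSupersolvable G) :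
    ∃ N : Subgroup G, N.Normal ∧ (Nat.card N).Prime := by
  obtain ⟨n, H, h0, hl, hn, hs⟩ := hG
  suffices h : ∀ i : Fin (n + 1), H i = ⊥ ∨ ∃ N : Subgroup G, N.Normal ∧ (Nat.card N).Prime by
    rcases h (Fin.last n) with h | h
    · rw [hl] at h
      exact absurd h top_ne_bot
    · exact h
  intro i
  induction i using Fin.induction with
  | zero => exact Or.inl h0
  | succ i ih =>
    rcases ih with ih | ih
    swap
    · exact Or.inr ih
    obtain ⟨g, hg⟩ := hs i
    rw [ih, bot_sup_eq] at hg
    by_cases hg1 : g = 1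
    · exact Or.inl (by rw [hg, hg1, Subgroup.zpowers_one_eq_bot])
    right
    obtain ⟨r, hr, hrd⟩ := Nat.exists_prime_and_dvd (mt orderOf_eq_one_iff.1 hg1)
    refine ⟨Subgroup.zpowers (g ^ (orderOf g / r)), ⟨?_⟩, ?_⟩
    · intro x hx y
      obtain ⟨m, rfl⟩ := Subgroup.mem_zpowers_iff.1 hx
      have h1 : y * g * y⁻¹ ∈ H i.succ :=
        (hn i.succ).conj_mem g (hg ▸ Subgroup.mem_zpowers g) y
      rw [hg] at h1
      obtain ⟨c, hc⟩ := Subgroup.mem_zpowers_iff.1 h1
      refine Subgroup.mem_zpowers_iff.2 ⟨c * m, ?_⟩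
      rw [← conj_zpow, ← conj_pow, ← hc, ← zpow_natCast (g ^ c), ← zpow_mul, ← zpow_mul,
        ← zpow_natCast g, ← zpow_mul]
      congr 1
      ring
    · rw [Nat.card_zpowers, orderOf_pow_orderOf_div (orderOf_pos g).ne' hrd]
      exact hr

theorem isCyclic_of_card_prime {H : Type*} [Group H] (h : (Nat.card H).Prime) : IsCyclic H :=
  haveI := Fact.mk h
  isCyclic_of_prime_card (p := Nat.card H) rfl

theorem card_quotient_lt [Finite G] (N : Subgroup G) (hN : N ≠ ⊥) :
    Nat.card (G ⧸ N) < Nat.card G := by
  rw [card_eq_card_quotient_mul_card_subgroup N]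
  exact lt_mul_of_one_lt_right Nat.card_pos ((one_lt_card_iff_ne_bot N).2 hN)

/-- Subgroups of finite supersolvable groups are supersolvable. -/
theorem isSupersolvable_subgroup [Finite G] (hG : Cfsg.IsSupersolvable G) (K : Subgroup G) :
    Cfsg.IsSupersolvable K := by
  induction hk : Nat.card G using Nat.strong_induction_on generalizing G with
  | _ k ih =>
  rcases subsingleton_or_nontrivial G with hs | hs
  · exact isSupersolvable_of_subsingleton
  obtain ⟨N, hN, hp⟩ := exists_normal_prime_card hG
  have : IsCyclic N := isCyclic_of_card_prime hp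
  have hNb : N ≠ ⊥ := fun h => hp.ne_one (card_eq_one.2 h)
  have h1 := ih _ (hk ▸ card_quotient_lt N hNb) (isSupersolvable_quotient N hG)
    ((QuotientGroup.mk' N).comp K.subtype).range rfl
  set f := ((QuotientGroup.mk' N).comp K.subtype).rangeRestrict
  have : IsCyclic f.ker := by
    refine isCyclic_of_injective
      (⟨⟨fun x => (⟨(x.1 : G), ?_⟩ : N), rfl⟩, fun _ _ => rfl⟩ : f.ker →* N) ?_
    · have := congrArg Subtype.val (MonoidHom.mem_ker.1 x.2)
      exact (QuotientGroup.eq_one_iff (x.1 : G)).1 this
    · intro x y h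
      exact Subtype.ext (Subtype.ext (congrArg (fun z : N => (z : G)) h :))
  exact isSupersolvable_of_cyclic_ker f (MonoidHom.rangeRestrict_surjective _) h1

theorem isSolvable_of_isSupersolvable [Finite G] (hG : Cfsg.IsSupersolvable G) :
    Group.IsSolvable G := by
  induction hk : Nat.card G using Nat.strong_induction_on generalizing G with
  | _ k ih =>
  rcases subsingleton_or_nontrivial G with hs | hs
  · infer_instance
  obtain ⟨N, hN, hp⟩ := exists_normal_prime_card hG
  have : IsCyclic N := isCyclic_of_card_prime hp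
  have hNb : N ≠ ⊥ := fun h => hp.ne_one (card_eq_one.2 h)
  have : Group.IsSolvable (G ⧸ N) := ih _ (hk ▸ card_quotient_lt N hNb) (isSupersolvable_quotient N hG) rfl
  have : Group.IsSolvable N := Group.isSolvable_of_comm fun a b => mul_comm' a b
  exact (Group.isSolvable_iff_subgroup_quotient N).2 ⟨inferInstance, inferInstance⟩

theorem isSupersolvable_prod {H : Type v} [Group H] [Finite G] [Finite H]
    (hG : Cfsg.IsSupersolvable G) (hH : Cfsg.IsSupersolvable H) :
    Cfsg.IsSupersolvable (G × H) := by
  induction hk : Nat.card G using Nat.strong_induction_on generalizing G with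
  | _ k ih =>
  rcases subsingleton_or_nontrivial G with hs | hs
  · exact isSupersolvable_of_surjective (MonoidHom.inr G H)
      (fun x => ⟨x.2, Prod.ext (Subsingleton.elim _ _) rfl⟩) hH
  obtain ⟨N, hN, hp⟩ := exists_normal_prime_card hG
  have : IsCyclic N := isCyclic_of_card_prime hp
  have hNb : N ≠ ⊥ := fun h => hp.ne_one (card_eq_one.2 h)
  have h1 := ih _ (hk ▸ card_quotient_lt N hNb) (isSupersolvable_quotient N hG) rfl
  set f := (QuotientGroup.mk' N).prodMap (MonoidHom.id H)
  have hf : Function.Surjective f := fun ⟨a, b⟩ => by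
    obtain ⟨a', rfl⟩ := QuotientGroup.mk'_surjective N a
    exact ⟨(a', b), rfl⟩
  have : IsCyclic f.ker := by
    refine isCyclic_of_injective
      (⟨⟨fun x => (⟨x.1.1, ?_⟩ : N), rfl⟩, fun _ _ => rfl⟩ : f.ker →* N) ?_
    · exact (QuotientGroup.eq_one_iff x.1.1).1 (congrArg Prod.fst (MonoidHom.mem_ker.1 x.2))
    · intro x y h
      refine Subtype.ext (Prod.ext (congrArg (fun z : N => (z : G)) h :) ?_)
      have hx : x.1.2 = 1 := congrArg Prod.snd (MonoidHom.mem_ker.1 x.2)
      have hy : y.1.2 = 1 := congrArg Prod.snd (MonoidHom.mem_ker.1 y.2)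
      rw [hx, hy]
  exact isSupersolvable_of_cyclic_ker f hf h1

/-- Finite nilpotent groups are supersolvable. -/
theorem isSupersolvable_of_isNilpotent [Finite G] [Group.IsNilpotent G] :
    Cfsg.IsSupersolvable G := by
  induction hk : Nat.card G using Nat.strong_induction_on generalizing G with
  | _ k ih =>
  rcases subsingleton_or_nontrivial G with hs | hs
  · exact isSupersolvable_of_subsingleton
  have hc : center G ≠ ⊥ := Group.IsNilpotent.center_ne_bot G
  obtain ⟨⟨g, hg⟩, hg1⟩ : ∃ g : center G, g ≠ 1 := by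
    have := (nontrivial_iff_ne_bot _).2 hc
    exact exists_ne 1
  have : (zpowers g).Normal := ⟨fun x hx y => by
    have : x ∈ center G := zpowers_le.2 hg hx
    rwa [mem_center_iff.1 this y, mul_inv_cancel_right]⟩
  have hNb : zpowers g ≠ ⊥ := fun h => hg1 (Subtype.ext (zpowers_eq_bot.1 h))
  have : IsCyclic (zpowers g) := inferInstance
  exact isSupersolvable_of_cyclic_normal (zpowers g) (ih _ (hk ▸ card_quotient_lt _ hNb) rfl)

theorem isSupersolvable_of_isPGroup [Finite G] {p : ℕ} [Fact p.Prime] (h : IsPGroup p G) :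
    Cfsg.IsSupersolvable G :=
  haveI := h.isNilpotent
  isSupersolvable_of_isNilpotent

/-- In a finite supersolvable group every maximal subgroup has prime index. -/
theorem index_maximal_prime [Finite G] (hG : Cfsg.IsSupersolvable G) {M : Subgroup G}
    (hM : IsCoatom M) : M.index.Prime := by
  induction hk : Nat.card G using Nat.strong_induction_on generalizing G with
  | _ k ih =>
  rcases subsingleton_or_nontrivial G with hs | hs
  · exact absurd (Subsingleton.elim _ _) hM.1
  obtain ⟨N, hN, hp⟩ := exists_normal_prime_card hG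
  have hc : IsCyclic N := isCyclic_of_card_prime hp
  have hNb : N ≠ ⊥ := fun h => hp.ne_one (card_eq_one.2 h)
  by_cases hNM : N ≤ M
  · have hsurj := QuotientGroup.mk'_surjective N
    have hker : (QuotientGroup.mk' N).ker ≤ M := by rwa [QuotientGroup.ker_mk']
    have hcom : (M.map (QuotientGroup.mk' N)).comap (QuotientGroup.mk' N) = M :=
      comap_map_eq_self hker
    have hM' : IsCoatom (M.map (QuotientGroup.mk' N)) := by
      refine ⟨fun h => hM.1 (by rw [← hcom, h, comap_top]), fun X hX => ?_⟩
      have hlt : M < X.comap (QuotientGroup.mk' N) := by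
        refine lt_of_le_of_ne (hcom.symm.le.trans (comap_mono hX.le)) fun he => hX.ne ?_
        exact (congrArg (Subgroup.map _) he).trans (map_comap_eq_self_of_surjective hsurj X)
      rw [← map_comap_eq_self_of_surjective hsurj X, hM.2 _ hlt, map_top_of_surjective _ hsurj]
    rw [← index_map_eq M hsurj hker]
    exact ih _ (hk ▸ card_quotient_lt N hNb) (isSupersolvable_quotient N hG) hM' rfl
  · have hsup := sup_eq_top_of_coatom hM hNM
    have hab : IsMulCommutative N := ⟨⟨fun a b => mul_comm' a b⟩⟩
    have hinf : N ⊓ M = ⊥ := by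
      rcases hp.eq_one_or_self_of_dvd _ (card_dvd_of_le (inf_le_left : N ⊓ M ≤ N)) with h | h
      · exact card_eq_one.1 h
      · exact absurd (inf_eq_left.1 (eq_of_le_of_card_le inf_le_left h.ge)) hNM
    rw [(isComplement'_of_normal_sup_inf hinf hsup).index_eq_card]
    exact hp

/-- The derived subgroup of a supersolvable group is nilpotent. -/
theorem isNilpotent_commutator (hG : Cfsg.IsSupersolvable G) :
    Group.IsNilpotent (commutator G) := by
  obtain ⟨n, H, h0, hl, hn, hs⟩ := hG
  have key : ∀ i : Fin n, ⁅H i.succ, commutator G⁆ ≤ H i.castSucc := by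
    intro i
    obtain ⟨g, hg⟩ := hs i
    have := hn i.castSucc
    set q := QuotientGroup.mk' (H i.castSucc)
    set Z := (H i.succ).map q with hZ
    have hZc : Z = zpowers (q g) := by
      rw [hZ, hg, Subgroup.map_sup, (Subgroup.map_eq_bot_iff _).2 (QuotientGroup.ker_mk' _).ge,
        bot_sup_eq, MonoidHom.map_zpowers]
    have hZn : Z.Normal := (hn i.succ).map q (QuotientGroup.mk'_surjective _)
    -- conjugation on a cyclic normal subgroup has abelian image
    have hC : (commutator G).map q ≤ centralizer (Z : Set _) := by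
      rw [map_commutator_eq]
      refine commutator_le.2 fun a _ b _ => ?_
      have hconj : ∀ a, ∃ k : ℤ, a * q g * a⁻¹ = q g ^ k := fun a => by
        have := hZn.conj_mem (q g) (by rw [hZc]; exact mem_zpowers _) a
        rw [hZc, mem_zpowers_iff] at this
        obtain ⟨k, hk⟩ := this
        exact ⟨k, hk.symm⟩
      have hab : ∀ a b, (a * b) * q g * (a * b)⁻¹ = (b * a) * q g * (b * a)⁻¹ := by
        intro a b
        obtain ⟨k, hk⟩ := hconj a
        obtain ⟨l, hl⟩ := hconj b
        have e1 : (a * b) * q g * (a * b)⁻¹ = a * (b * q g * b⁻¹) * a⁻¹ := by group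
        have e2 : (b * a) * q g * (b * a)⁻¹ = b * (a * q g * a⁻¹) * b⁻¹ := by group
        rw [e1, e2, hl, hk, ← conj_zpow, ← conj_zpow, hl, hk, ← zpow_mul, ← zpow_mul, mul_comm]
      have hfix : ⁅a, b⁆ * q g * ⁅a, b⁆⁻¹ = q g := by
        have hh := hab a⁻¹ b⁻¹
        have e : ⁅a, b⁆ * q g * ⁅a, b⁆⁻¹ =
            (a * b) * ((a⁻¹ * b⁻¹) * q g * (a⁻¹ * b⁻¹)⁻¹) * (a * b)⁻¹ := by
          rw [commutatorElement_def]; group
        rw [e, hh]; group
      rw [mem_centralizer_iff]
      intro z hz
      rw [SetLike.mem_coe, hZc, mem_zpowers_iff] at hz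
      obtain ⟨k, rfl⟩ := hz
      have : Commute (q g) ⁅a, b⁆ := (mul_inv_eq_iff_eq_mul.1 hfix).symm
      exact this.zpow_left k
    refine commutator_le.2 fun x hx y hy => ?_
    rw [← QuotientGroup.eq_one_iff, ← QuotientGroup.mk'_apply, map_commutatorElement,
      commutatorElement_eq_one_iff_mul_comm]
    exact mem_centralizer_iff.1 (hC (mem_map_of_mem q hy)) _ (mem_map_of_mem q hx)
  refine (Subgroup.nilpotent_iff_finite_ascending_central_series _).2
    ⟨n, fun i => (if h : i ≤ n then H ⟨i, by omega⟩ else ⊤).subgroupOf (commutator G),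
      ⟨?_, ?_⟩, ?_⟩
  · simp only
    rw [dif_pos (Nat.zero_le n)]
    show (H 0).subgroupOf _ = ⊥
    rw [h0, bot_subgroupOf]
  · intro x i hx y
    simp only at hx ⊢
    by_cases hi : i + 1 ≤ n
    · rw [dif_pos hi] at hx
      rw [dif_pos (Nat.le_of_succ_le hi)]
      exact key ⟨i, hi⟩ (commutator_mem_commutator (mem_subgroupOf.1 hx) y.2)
    · by_cases hi' : i ≤ n
      · rw [dif_pos hi']
        have : (⟨i, by omega⟩ : Fin (n + 1)) = Fin.last n := Fin.ext (by simp; omega)
        rw [this, hl]; exact mem_top _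
      · rw [dif_neg hi']; exact mem_top _
  · simp only
    rw [dif_pos le_rfl]
    show (H (Fin.last n)).subgroupOf _ = ⊤
    rw [hl, top_subgroupOf]

/-- The key step towards a chief series with decreasing primes: the largest prime divisor of the
order of a supersolvable group is the order of some normal subgroup. -/
theorem exists_normal_card_eq_max_prime [Finite G] (hG : Cfsg.IsSupersolvable G) {q : ℕ}
    (hq : q.Prime) (hdvd : q ∣ Nat.card G)
    (hmax : ∀ r : ℕ, r.Prime → r ∣ Nat.card G → r ≤ q) :
    ∃ N : Subgroup G, N.Normal ∧ Nat.card N = q := by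
  induction hk : Nat.card G using Nat.strong_induction_on generalizing G with
  | _ k ih =>
  rcases subsingleton_or_nontrivial G with hs | hs
  · rw [Nat.card_of_subsingleton (1 : G)] at hdvd
    exact absurd (Nat.dvd_one.1 hdvd) hq.ne_one
  obtain ⟨N, hN, hp⟩ := exists_normal_prime_card hG
  by_cases hNq : Nat.card N = q
  · exact ⟨N, hN, hNq⟩
  have hlt : Nat.card N < q := lt_of_le_of_ne (hmax _ hp (card_subgroup_dvd_card N)) hNq
  have hNb : N ≠ ⊥ := fun h => hp.ne_one (card_eq_one.2 h)
  have hdvd' : q ∣ Nat.card (G ⧸ N) := by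
    rw [card_eq_card_quotient_mul_card_subgroup N] at hdvd
    refine (hq.dvd_mul.1 hdvd).resolve_right fun h => hNq ?_
    exact ((Nat.prime_dvd_prime_iff_eq hq hp).1 h).symm
  obtain ⟨M', hM', hM'c⟩ := ih _ (hk ▸ card_quotient_lt N hNb) (isSupersolvable_quotient N hG)
    hdvd' (fun r hr h => hmax r hr (h.trans (card_quotient_dvd_card N))) rfl
  have := hM'.comap (QuotientGroup.mk' N)
  set M := M'.comap (QuotientGroup.mk' N) with hMdef
  have hM : Nat.card M = q * Nat.card N := by rw [hMdef, card_comap_mk', hM'c]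
  have : Fact q.Prime := ⟨hq⟩
  obtain ⟨P⟩ : Nonempty (Sylow q M) := inferInstance
  have hPc : Nat.card (P : Subgroup M) = q := by
    rw [P.card_eq_multiplicity, hM, Nat.factorization_mul hq.ne_zero hp.ne_zero,
      Finsupp.coe_add, Pi.add_apply, hq.factorization_self,
      Nat.factorization_eq_zero_of_not_dvd (n := Nat.card N) fun h => hNq
        ((Nat.prime_dvd_prime_iff_eq hq hp).1 h).symm, add_zero, pow_one]
  have hidx : (P : Subgroup M).index = Nat.card N := by
    have := (P : Subgroup M).card_mul_index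
    rw [hPc, hM] at this
    exact Nat.eq_of_mul_eq_mul_left hq.pos this
  have hsyl : Nat.card (Sylow q M) = 1 := by
    rcases hp.eq_one_or_self_of_dvd _ (hidx ▸ P.card_dvd_index) with h | h
    · exact h
    · have := card_sylow_modEq_one q M
      rw [h, Nat.ModEq, Nat.mod_eq_of_lt hlt, Nat.mod_eq_of_lt hq.one_lt] at this
      exact absurd this hp.ne_one
  have : Subsingleton (Sylow q M) := (Nat.card_eq_one_iff_unique.1 hsyl).1
  have hPn : (P : Subgroup M).Normal := P.normal_of_subsingleton
  have hPch : (P : Subgroup M).Characteristic := P.characteristic_of_normal hPn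
  refine ⟨(P : Subgroup M).map M.subtype, inferInstance, ?_⟩
  rw [card_map_of_injective M.subtype_injective, hPc]

/-- The series of a supersolvable group with prime steps, decreasing upwards. -/
theorem exists_series_decreasing [Finite G] (hG : Cfsg.IsSupersolvable G) :
    ∃ (n : ℕ) (H : Fin (n + 1) → Subgroup G), H 0 = ⊥ ∧ H (Fin.last n) = ⊤ ∧
      (∀ i, (H i).Normal) ∧
      (∀ i : Fin n, H i.castSucc ≤ H i.succ ∧ ((H i.castSucc).relIndex (H i.succ)).Prime ∧
        (H i.castSucc).relIndex (H i.succ) ∣ Nat.card G) ∧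
      ∀ i j : Fin n, i ≤ j →
        (H j.castSucc).relIndex (H j.succ) ≤ (H i.castSucc).relIndex (H i.succ) := by
  induction hk : Nat.card G using Nat.strong_induction_on generalizing G with
  | _ k ih =>
  rcases subsingleton_or_nontrivial G with hs | hs
  · exact ⟨0, fun _ => ⊤, Subsingleton.elim _ _, rfl, fun _ => inferInstance,
      fun i => i.elim0, fun i => i.elim0⟩
  obtain ⟨q, hq, hqd⟩ := Nat.exists_prime_and_dvd (n := Nat.card G)
    (Finite.one_lt_card.ne')
  obtain ⟨q, ⟨hq, hqd⟩, hmax⟩ : ∃ q, (q.Prime ∧ q ∣ Nat.card G) ∧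
      ∀ r : ℕ, r.Prime → r ∣ Nat.card G → r ≤ q := by
    obtain ⟨m, hm, hm'⟩ := (Nat.card G).primeFactors.exists_max_image id
      ⟨q, Nat.mem_primeFactors.2 ⟨hq, hqd, Nat.card_pos.ne'⟩⟩
    exact ⟨m, ⟨Nat.prime_of_mem_primeFactors hm, Nat.dvd_of_mem_primeFactors hm⟩,
      fun r hr hrd => hm' r (Nat.mem_primeFactors.2 ⟨hr, hrd, Nat.card_pos.ne'⟩)⟩
  obtain ⟨N, hN, hNc⟩ := exists_normal_card_eq_max_prime hG hq hqd hmax
  have hNb : N ≠ ⊥ := fun h => hq.ne_one (hNc ▸ card_eq_one.2 h)
  obtain ⟨n, H, h0, hl, hn, hs', hord⟩ :=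
    ih _ (hk ▸ card_quotient_lt N hNb) (isSupersolvable_quotient N hG) rfl
  set π := QuotientGroup.mk' N
  have hπ : Function.Surjective π := QuotientGroup.mk'_surjective N
  set H' : Fin (n + 2) → Subgroup G := Fin.cons ⊥ (fun i => (H i).comap π) with hH'
  have hstep0 : (H' (Fin.castSucc 0)).relIndex (H' (Fin.succ 0)) = q := by
    simp only [hH', Fin.castSucc_zero, Fin.cons_zero, Fin.cons_succ, relIndex_bot_left, h0,
      MonoidHom.comap_bot]
    rw [QuotientGroup.ker_mk', hNc]
  have hstep : ∀ i : Fin n, (H' i.succ.castSucc).relIndex (H' i.succ.succ) =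
      (H i.castSucc).relIndex (H i.succ) := by
    intro i
    simp only [hH', ← Fin.succ_castSucc, Fin.cons_succ]
    rw [relIndex_comap, map_comap_eq_self_of_surjective hπ]
  refine ⟨n + 1, H', Fin.cons_zero _ _, ?_, ?_, ?_, ?_⟩
  · rw [hH', ← Fin.succ_last, Fin.cons_succ, hl, comap_top]
  · intro i
    induction i using Fin.cases with
    | zero => simp only [hH', Fin.cons_zero]; infer_instance
    | succ i => simp only [hH', Fin.cons_succ]; exact (hn i).comap π
  · intro i
    induction i using Fin.cases with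
    | zero =>
      rw [hstep0, ← hk]
      exact ⟨by simp [hH'], hq, hqd⟩
    | succ i =>
      rw [hstep, ← hk]
      refine ⟨?_, (hs' i).2.1, (hs' i).2.2.trans (card_quotient_dvd_card N)⟩
      simp only [hH', ← Fin.succ_castSucc, Fin.cons_succ]
      exact comap_mono (hs' i).1
  · intro i j hij
    induction i using Fin.cases with
    | zero =>
      induction j using Fin.cases with
      | zero => exact le_rfl
      | succ j =>
        rw [hstep0, hstep]
        exact hmax _ (hs' j).2.1 ((hs' j).2.2.trans (card_quotient_dvd_card N))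
    | succ i =>
      induction j using Fin.cases with
      | zero => exact absurd hij (by simp)
      | succ j =>
        rw [hstep, hstep]
        exact hord i j (Fin.succ_le_succ_iff.1 hij)

/-- A supersolvable group has subgroups of all orders dividing its order. -/
theorem hasSubgroupOfEveryOrder [Finite G] (hG : Cfsg.IsSupersolvable G) :
    Cfsg.HasSubgroupOfEveryOrder G := by
  induction hk : Nat.card G using Nat.strong_induction_on generalizing G with
  | _ k ih =>
  rcases subsingleton_or_nontrivial G with hs | hs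
  · intro d hd
    rw [Nat.card_of_subsingleton (1 : G), Nat.dvd_one] at hd
    exact ⟨⊥, by rw [hd, card_bot]⟩
  intro d hd
  obtain ⟨N, hN, hp⟩ := exists_normal_prime_card hG
  have hNb : N ≠ ⊥ := fun h => hp.ne_one (card_eq_one.2 h)
  have IH := ih _ (hk ▸ card_quotient_lt N hNb) (isSupersolvable_quotient N hG) rfl
  rw [card_eq_card_quotient_mul_card_subgroup N] at hd
  by_cases hr : Nat.card N ∣ d
  · obtain ⟨e, rfl⟩ := hr
    rw [mul_comm] at hd
    obtain ⟨H, hH⟩ := IH e (Nat.dvd_of_mul_dvd_mul_right Nat.card_pos hd)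
    exact ⟨H.comap (QuotientGroup.mk' N), by rw [card_comap_mk', hH, mul_comm]⟩
  · have hco : d.Coprime (Nat.card N) := ((Nat.Prime.coprime_iff_not_dvd hp).2 hr).symm
    obtain ⟨H, hH⟩ := IH d (hco.dvd_of_dvd_mul_right hd)
    set L := H.comap (QuotientGroup.mk' N) with hLdef
    have hNL : N ≤ L := fun x hx => by simp [L, (QuotientGroup.eq_one_iff x).2 hx]
    have hL : Nat.card L = Nat.card N * d := by rw [hLdef, card_comap_mk', hH, mul_comm]
    have hidx : (N.subgroupOf L).index = d := by
      have := (N.subgroupOf L).card_mul_index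
      rw [card_subgroupOf hNL, hL] at this
      exact Nat.eq_of_mul_eq_mul_left Nat.card_pos this
    obtain ⟨C, hC⟩ := exists_right_complement'_of_coprime (N := N.subgroupOf L)
      (by rw [card_subgroupOf hNL, hidx]; exact hco.symm)
    refine ⟨C.map L.subtype, ?_⟩
    rw [card_map_of_injective L.subtype_injective]
    have := hC.card_mul_card
    rw [card_subgroupOf hNL, hL] at this
    exact Nat.eq_of_mul_eq_mul_left Nat.card_pos this

/-- A group of order twice a prime power is supersolvable. -/
theorem isSupersolvable_two_mul_prime_pow [Finite G] {p : ℕ} [hp : Fact p.Prime] (n : ℕ)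
    (hG : Nat.card G = 2 * p ^ n) : Cfsg.IsSupersolvable G := by
  induction n generalizing G with
  | zero =>
    rw [pow_zero, mul_one] at hG
    haveI : IsCyclic G := isCyclic_of_card_prime (hG ▸ Nat.prime_two)
    haveI : IsCyclic (⊤ : Subgroup G) := isCyclic_of_surjective _ Subgroup.topEquiv.symm.surjective
    haveI : Subsingleton (G ⧸ (⊤ : Subgroup G)) := QuotientGroup.subsingleton_quotient_top
    exact isSupersolvable_of_cyclic_normal ⊤ isSupersolvable_of_subsingleton
  | succ n ih =>
    by_cases hp2 : p = 2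
    · subst hp2
      exact isSupersolvable_of_isPGroup (IsPGroup.of_card (show Nat.card G = 2 ^ (n + 2) by rw [hG]; ring))
    suffices h : ∃ N : Subgroup G, N.Normal ∧ Nat.card N = p by
      obtain ⟨N, hN, hNc⟩ := h
      haveI : IsCyclic N := isCyclic_of_card_prime (hNc ▸ hp.out)
      refine isSupersolvable_of_cyclic_normal N (ih ?_)
      have := card_eq_card_quotient_mul_card_subgroup N
      rw [hG, hNc, pow_succ, ← mul_assoc] at this
      exact (Nat.eq_of_mul_eq_mul_right hp.out.pos this).symm
    obtain ⟨P⟩ : Nonempty (Sylow p G) := inferInstance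
    have hPc : Nat.card (P : Subgroup G) = p ^ (n + 1) := by
      rw [P.card_eq_multiplicity, hG, Nat.factorization_mul two_ne_zero (pow_ne_zero _ hp.out.ne_zero),
        Finsupp.coe_add, Pi.add_apply, hp.out.factorization_pow, Finsupp.single_eq_same,
        Nat.factorization_eq_zero_of_not_dvd fun h =>
          hp2 ((Nat.prime_dvd_prime_iff_eq hp.out Nat.prime_two).1 h), zero_add]
    have hPi : (P : Subgroup G).index = 2 := by
      have := (P : Subgroup G).card_mul_index
      rw [hPc, hG, mul_comm 2] at this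
      exact Nat.eq_of_mul_eq_mul_left (pow_pos hp.out.pos _) this
    have hPn : (P : Subgroup G).Normal := normal_of_index_eq_two hPi
    haveI : Nontrivial (P : Subgroup G) := by
      rw [← Finite.one_lt_card_iff_nontrivial, hPc]; exact Nat.one_lt_pow (by omega) hp.out.one_lt
    haveI := P.isPGroup'.center_nontrivial
    have hZ : (center (P : Subgroup G)).map (P : Subgroup G).subtype ≠ ⊥ := by
      rw [ne_eq, map_eq_bot_iff_of_injective _ (P : Subgroup G).subtype_injective]
      exact (nontrivial_iff_ne_bot _).1 inferInstance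
    have hZn : ((center (P : Subgroup G)).map (P : Subgroup G).subtype).Normal := inferInstance
    obtain ⟨x, hx, hxo⟩ : ∃ x ∈ (center (P : Subgroup G)).map (P : Subgroup G).subtype,
        orderOf x = p := by
      set Z := (center (P : Subgroup G)).map (P : Subgroup G).subtype
      have hd : p ∣ Nat.card Z := by
        obtain ⟨j, hj⟩ := IsPGroup.iff_card.1 (P.isPGroup'.to_le (map_subtype_le _) : IsPGroup p Z)
        rcases j with _ | j
        · exact absurd (card_eq_one.1 (hj.trans (pow_zero p))) hZ
        · exact hj ▸ dvd_pow_self p (Nat.succ_ne_zero _)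
      obtain ⟨x, hx⟩ := exists_prime_orderOf_dvd_card' p hd
      exact ⟨x, x.2, by rw [← hx, Subgroup.orderOf_coe]⟩
    obtain ⟨t, ht⟩ : ∃ t : G, t ∉ (P : Subgroup G) := by
      by_contra h
      push Not at h
      have h' : (P : Subgroup G) = ⊤ := eq_top_iff.2 fun a _ => h a
      rw [h', index_top] at hPi
      omega
    have hxP : x ∈ (P : Subgroup G) := map_subtype_le _ hx
    have hcomm : ∀ a ∈ (P : Subgroup G), ∀ z ∈ (center (P : Subgroup G)).map (P : Subgroup G).subtype,
        a * z = z * a := by
      rintro a ha _ ⟨z, hz, rfl⟩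
      exact congrArg Subtype.val (mem_center_iff.1 hz ⟨a, ha⟩)
    have htt : t * t ∈ (P : Subgroup G) := mul_self_mem_of_index_two hPi t
    -- a generator of a normal subgroup of order `p`
    obtain ⟨y, hy, hyo, hyt⟩ : ∃ y ∈ (center (P : Subgroup G)).map (P : Subgroup G).subtype,
        orderOf y = p ∧ t * y * t⁻¹ ∈ zpowers y := by
      set x' := t * x * t⁻¹ with hx'
      have hx'Z := hZn.conj_mem x hx t
      have hx'' : t * x' * t⁻¹ = x := by
        rw [hx', show t * (t * x * t⁻¹) * t⁻¹ = t * t * x * (t * t)⁻¹ by group,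
          hcomm _ htt x hx, mul_inv_cancel_right]
      by_cases h1 : x * x' = 1
      · refine ⟨x, hx, hxo, ?_⟩
        rw [← hx', eq_inv_of_mul_eq_one_right h1]
        exact inv_mem (mem_zpowers x)
      · refine ⟨x * x', mul_mem hx hx'Z, ?_, ?_⟩
        · refine orderOf_eq_prime ?_ h1
          have hc : Commute x x' := hcomm x hxP x' hx'Z
          rw [hc.mul_pow, ← hxo, pow_orderOf_eq_one, one_mul, hx', conj_pow, pow_orderOf_eq_one,
            mul_one, mul_inv_cancel]
        · have : t * (x * x') * t⁻¹ = x' * x := by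
            rw [show t * (x * x') * t⁻¹ = (t * x * t⁻¹) * (t * x' * t⁻¹) by group, hx'', hx']
          rw [this, ← hcomm x hxP x' hx'Z]
          exact mem_zpowers _
    refine ⟨zpowers y, ⟨fun z hz g => ?_⟩, by rw [Nat.card_zpowers, hyo]⟩
    obtain ⟨m, rfl⟩ := mem_zpowers_iff.1 hz
    rw [← conj_zpow]
    refine zpow_mem ?_ m
    by_cases hg : g ∈ (P : Subgroup G)
    · rw [hcomm g hg y hy, mul_inv_cancel_right]; exact mem_zpowers y
    · have hgt : t⁻¹ * g ∈ (P : Subgroup G) := by
        rw [mul_mem_iff_of_index_two hPi, inv_mem_iff]; tauto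
      rw [show g * y * g⁻¹ = t * ((t⁻¹ * g) * y * (t⁻¹ * g)⁻¹) * t⁻¹ by group,
        hcomm _ hgt y hy, mul_inv_cancel_right]
      exact hyt

end Cfsg.Agent.Solvable
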