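import Cfsg.Agent.Lib.Solvable.Maximal
import Cfsg.Agent.Lib.Solvable.Supersolvable
import Cfsg.Agent.Lib.Frobenius.Basic
import Cfsg.Agent.Lib.Transfer.Hall
import Mathlib.Data.Set.Finite.Lemmas

/-!
Finite groups all of whose proper subgroups are nilpotent: solvability and structure (Schmidt).
-/

set_option autoImplicit false

namespace Cfsg.Agent.Solvable

open Subgroup
open scoped Pointwise commutatorElement

universe u

variable {G : Type u} [Group G]

theorem exists_normal_prime_index (G : Type u) [Group G] [Finite G] [Group.IsSolvable G]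
    [Nontrivial G] : ∃ M : Subgroup G, M.Normal ∧ M.index.Prime ∧ IsCoatom M := by
  have hlt : commutator G < ⊤ := Group.IsSolvable.commutator_lt_top_of_nontrivial G
  obtain ⟨M, hM, hle⟩ : ∃ M : Subgroup G, IsCoatom M ∧ commutator G ≤ M := by
    rcases eq_top_or_exists_le_coatom (commutator G) with h | h
    · exact absurd h hlt.ne
    · exact h
  have hMn : M.Normal := by
    refine ⟨fun x hx g => ?_⟩
    have hc : ⁅g, x⁆ ∈ M := hle (commutator_mem_commutator (mem_top g) (mem_top x))
    have := M.mul_mem hc hx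
    rwa [commutatorElement_def, inv_mul_cancel_right] at this
  haveI : Group.IsNilpotent (G ⧸ M) := by
    letI : CommGroup (G ⧸ M) :=
      { (inferInstance : Group (G ⧸ M)) with
        mul_comm := fun a b => by
          obtain ⟨a, rfl⟩ := QuotientGroup.mk'_surjective M a
          obtain ⟨b, rfl⟩ := QuotientGroup.mk'_surjective M b
          rw [← commutatorElement_eq_one_iff_mul_comm, ← map_commutatorElement,
            QuotientGroup.mk'_apply, QuotientGroup.eq_one_iff]
          exact hle (commutator_mem_commutator (mem_top a) (mem_top b)) }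
    exact (inferInstance : Group.IsNilpotent (G ⧸ M))
  have hbot : IsCoatom (⊥ : Subgroup (G ⧸ M)) := by
    refine ⟨fun h => hM.1 (eq_top_iff.2 fun x _ => ?_), fun X hX => ?_⟩
    · have : (x : G ⧸ M) ∈ (⊥ : Subgroup (G ⧸ M)) := h ▸ mem_top _
      exact (QuotientGroup.eq_one_iff x).1 (mem_bot.1 this)
    · have hlt : M < X.comap (QuotientGroup.mk' M) := by
        refine lt_of_le_of_ne (fun x hx => by simp [(QuotientGroup.eq_one_iff x).2 hx]) fun he => ?_
        refine hX.ne' ?_
        rw [← map_comap_eq_self_of_surjective (QuotientGroup.mk'_surjective M) X, ← he,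
          Subgroup.map_eq_bot_iff, QuotientGroup.ker_mk']
      rw [← map_comap_eq_self_of_surjective (QuotientGroup.mk'_surjective M) X, hM.2 _ hlt,
        map_top_of_surjective _ (QuotientGroup.mk'_surjective M)]
  have := index_maximal_prime isSupersolvable_of_isNilpotent hbot
  rw [index_bot, ← index_eq_card] at this
  exact ⟨M, hMn, this, hM⟩

/-- A finite simple group whose proper subgroups are nilpotent is solvable. -/
theorem isSolvable_of_simple_proper_nilpotent [Finite G] [IsSimpleGroup G]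
    (h : ∀ H : Subgroup G, H ≠ ⊤ → Group.IsNilpotent H) : Group.IsSolvable G := by
  classical
  by_contra hns
  have hcyc : ∀ x : G, zpowers x ≠ ⊤ := fun x hx => hns (Group.isSolvable_of_comm fun a b => by
    obtain ⟨i, rfl⟩ := mem_zpowers_iff.1 (hx ▸ mem_top a : a ∈ zpowers x)
    obtain ⟨j, rfl⟩ := mem_zpowers_iff.1 (hx ▸ mem_top b : b ∈ zpowers x)
    exact (Commute.zpow_zpow_self x i j).eq)
  have hnot : ∀ H : Subgroup G, H ≠ ⊥ → H ≠ ⊤ → normalizer (H : Set G) ≠ ⊤ := fun H h1 h2 h3 =>
    (IsSimpleGroup.eq_bot_or_eq_top_of_normal H (normalizer_eq_top_iff.1 h3)).elim h1 h2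
  -- distinct maximal subgroups meet trivially
  have hgrow : ∀ (M D : Subgroup G), IsCoatom M → D < M → D < normalizer (D : Set G) ⊓ M := by
    intro M D hM hD
    haveI := h M hM.1
    have := Group.normalizerCondition_of_isNilpotent (G := M) (D.subgroupOf M) (by
      refine lt_top_iff_ne_top.2 fun ht => hD.not_ge ?_
      rwa [subgroupOf_eq_top] at ht)
    obtain ⟨m, hm, hmD⟩ := SetLike.exists_of_lt this
    refine lt_of_le_not_ge (le_inf le_normalizer hD.le) fun hle => hmD ?_
    refine hle ⟨mem_normalizer_iff.2 fun y => ⟨fun hy => ?_, fun hy => ?_⟩, m.2⟩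
    · exact (mem_normalizer_iff.1 hm ⟨y, hD.le hy⟩).1 hy
    · have hyM : y ∈ M := by
        simpa [mul_assoc] using M.mul_mem (M.mul_mem (M.inv_mem m.2) (hD.le hy)) m.2
      exact (mem_normalizer_iff.1 hm ⟨y, hyM⟩).2 hy
  have hTI : ∀ M N : Subgroup G, IsCoatom M → IsCoatom N → M ≠ N → M ⊓ N = ⊥ := by
    by_contra hbad
    push Not at hbad
    obtain ⟨⟨M, N⟩, ⟨hM, hN, hne, hD⟩, hmax⟩ := Set.exists_max_image
      {P : Subgroup G × Subgroup G | IsCoatom P.1 ∧ IsCoatom P.2 ∧ P.1 ≠ P.2 ∧ P.1 ⊓ P.2 ≠ ⊥}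
      (fun P => Nat.card ↥(P.1 ⊓ P.2)) (Set.toFinite _)
      (by obtain ⟨M, N, h1, h2, h3, h4⟩ := hbad; exact ⟨(M, N), h1, h2, h3, h4⟩)
    simp only at hM hN hne hD hmax
    have hDM : M ⊓ N < M := lt_of_le_of_ne inf_le_left fun he =>
      hne ((hM.le_iff.1 (inf_eq_left.1 he)).resolve_left hN.1).symm
    have hDN : M ⊓ N < N := lt_of_le_of_ne inf_le_right fun he =>
      hne ((hN.le_iff.1 (inf_eq_right.1 he)).resolve_left hM.1)
    obtain ⟨L, hL, hKL⟩ := (eq_top_or_exists_le_coatom (normalizer ((M ⊓ N : Subgroup G) : Set G))).resolve_left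
      (hnot _ hD (fun ht => hM.1 (eq_top_iff.2 (ht ▸ inf_le_left))))
    have key : ∀ X, IsCoatom X → M ⊓ N < X → L = X := by
      intro X hX hDX
      by_contra hne'
      have h1 : M ⊓ N < L ⊓ X :=
        (hgrow X _ hX hDX).trans_le (inf_le_inf_right X hKL)
      have h2 : Nat.card ↥(L ⊓ X) ≤ Nat.card ↥(M ⊓ N) :=
        hmax (L, X) ⟨hL, hX, hne', fun hb => not_lt_bot (hb ▸ h1)⟩
      exact h1.ne (eq_of_le_of_card_le h1.le h2)
    exact hne ((key M hM hDM).symm.trans (key N hN hDN))
  -- maximal subgroups are Frobenius complements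
  have hne_bot : ∀ M : Subgroup G, IsCoatom M → M ≠ ⊥ := by
    rintro M hM rfl
    obtain ⟨x, hx⟩ := exists_ne (1 : G)
    exact hcyc x (hM.2 _ (bot_lt_iff_ne_bot.2 fun hb => hx (zpowers_eq_bot.1 hb)))
  have hFr : ∀ M : Subgroup G, IsCoatom M → Cfsg.IsFrobeniusComplement M := by
    refine fun M hM => ⟨hne_bot M hM, hM.1, fun g hg => ?_⟩
    refine hTI M _ hM (isCoatom_conj_smul hM g) fun he => hg ?_
    have hN : normalizer (M : Set G) = M := le_antisymm
      (by
        by_contra h'
        exact hnot M (hne_bot M hM) hM.1 (hM.2 _ (lt_of_le_not_ge le_normalizer h')))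
      le_normalizer
    rw [← hN, mem_normalizer_iff'']
    intro y
    rw [← mem_conj_smul, ← he]
  obtain ⟨M, hM⟩ : ∃ M : Subgroup G, IsCoatom M := by
    rcases eq_top_or_exists_le_coatom (⊥ : Subgroup G) with h' | ⟨M, hM, -⟩
    · exact absurd h' bot_ne_top
    · exact ⟨M, hM⟩
  obtain ⟨x, hxk, hx1⟩ := Cfsg.Agent.Frobenius.exists_ne_one_mem_frobeniusKernel (hFr M hM)
  obtain ⟨N, hN, hxN⟩ := (eq_top_or_exists_le_coatom (zpowers x)).resolve_left (hcyc x)
  have hx : x ∈ N := hxN (mem_zpowers x)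
  -- the conjugates of `M` and of `N` cover disjoint sets of nonidentity elements
  have hsub : ∀ A B : Subgroup G, IsCoatom A → IsCoatom B →
      (∀ g : G, MulAut.conj g • B ≠ A) →
      (Cfsg.frobeniusKernel B)ᶜ ⊆ Cfsg.frobeniusKernel A \ {1} := by
    intro A B hA hB hAB y hy
    obtain ⟨hy1, g, hyg⟩ := Cfsg.Agent.Frobenius.exists_conj_of_not_mem_frobeniusKernel hy
    refine ⟨?_, hy1⟩
    by_contra hyA
    obtain ⟨-, k, hyk⟩ := Cfsg.Agent.Frobenius.exists_conj_of_not_mem_frobeniusKernel hyA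
    have hne : MulAut.conj g • B ≠ MulAut.conj k • A := fun he => hAB (k⁻¹ * g) (by
      rw [conj_smul_mul, he, ← conj_smul_mul, inv_mul_cancel, map_one, one_smul])
    have hbot := hTI _ _ (isCoatom_conj_smul hB g) (isCoatom_conj_smul hA k) hne
    exact hy1 (mem_bot.1 (hbot ▸ (⟨hyg, hyk⟩ : y ∈ MulAut.conj g • B ⊓ MulAut.conj k • A)))
  have hcount : ∀ A B : Subgroup G, IsCoatom A → IsCoatom B →
      (∀ g : G, MulAut.conj g • B ≠ A) → B.index + 1 ≤ A.index := by
    intro A B hA hB hAB
    have h1 := Set.ncard_le_ncard (hsub A B hA hB hAB) (Set.toFinite _)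
    rw [Cfsg.Agent.Frobenius.ncard_compl_frobeniusKernel (hFr B hB),
      Set.ncard_sdiff_singleton_of_mem Cfsg.Agent.Frobenius.one_mem_frobeniusKernel,
      Cfsg.Agent.Frobenius.ncard_frobeniusKernel (hFr A hA)] at h1
    have h2 := Cfsg.Agent.Frobenius.two_le_card (hFr B hB)
    have h3 : B.index ≤ B.index * (Nat.card B - 1) := Nat.le_mul_of_pos_right _ (by omega)
    have := Cfsg.Agent.Frobenius.two_le_index (hFr A hA)
    omega
  have hMN : ∀ g : G, MulAut.conj g • M ≠ N := fun g he =>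
    hx1 (Cfsg.Agent.Frobenius.eq_one_of_mem_frobeniusKernel_of_mem_conj hxk (he.symm ▸ hx))
  have hNM : ∀ g : G, MulAut.conj g • N ≠ M := fun g he => hMN g⁻¹ (by
    rw [← he, ← conj_smul_mul, inv_mul_cancel, map_one, one_smul])
  have := hcount M N hM hN hNM
  have := hcount N M hN hM hMN
  omega

/-- A finite group whose proper subgroups are nilpotent is solvable. -/
theorem isSolvable_of_proper_nilpotent [Finite G]
    (h : ∀ H : Subgroup G, H ≠ ⊤ → Group.IsNilpotent H) : Group.IsSolvable G := by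
  induction hk : Nat.card G using Nat.strong_induction_on generalizing G with
  | _ k ih =>
  rcases subsingleton_or_nontrivial G with hs | hs
  · infer_instance
  by_cases hsimp : IsSimpleGroup G
  · exact isSolvable_of_simple_proper_nilpotent h
  obtain ⟨N, hNn, hN, hNt⟩ : ∃ N : Subgroup G, N.Normal ∧ N ≠ ⊥ ∧ N ≠ ⊤ := by
    by_contra hcon
    push Not at hcon
    exact hsimp ⟨fun N hNn => or_iff_not_imp_left.2 (hcon N hNn)⟩
  haveI := h N hNt
  have : Group.IsSolvable (G ⧸ N) := by
    refine ih _ (hk ▸ card_quotient_lt N hN) (fun X hX => ?_) rfl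
    have hne : X.comap (QuotientGroup.mk' N) ≠ ⊤ := fun he => hX (by
      rw [← map_comap_eq_self_of_surjective (QuotientGroup.mk'_surjective N) X, he,
        map_top_of_surjective _ (QuotientGroup.mk'_surjective N)])
    haveI := h _ hne
    exact Group.nilpotent_of_surjective _
      (MonoidHom.subgroupComap_surjective_of_surjective _ X (QuotientGroup.mk'_surjective N))
  exact (Group.isSolvable_iff_subgroup_quotient N).2 ⟨inferInstance, this⟩

/-- Structure of minimal non-nilpotent groups. -/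
theorem minimalNonNilpotent_structure [Finite G] (hn : ¬ Group.IsNilpotent G)
    (h : ∀ H : Subgroup G, H ≠ ⊤ → Group.IsNilpotent H) :
    ∃ p q : ℕ, p.Prime ∧ q.Prime ∧ p ≠ q ∧ ∃ (P : Sylow p G) (Q : Sylow q G),
      IsCyclic P ∧ (Q : Subgroup G).Normal ∧ (P : Subgroup G) ⊔ Q = ⊤ := by
  haveI := isSolvable_of_proper_nilpotent h
  haveI : Nontrivial G := not_subsingleton_iff_nontrivial.1 fun hs => hn inferInstance
  obtain ⟨M, hMn, hMp, hM⟩ := exists_normal_prime_index G
  set p := M.index with hp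
  haveI := Fact.mk hMp
  haveI := h M hM.1
  have hnorm : ∀ q : ℕ, q.Prime → q ≠ p → ∀ Q : Sylow q G, (Q : Subgroup G).Normal := by
    intro q hq hqp Q
    haveI := Fact.mk hq
    have hQM : (Q : Subgroup G) ≤ M := by
      intro x hx
      obtain ⟨j, hj⟩ := Q.isPGroup' ⟨x, hx⟩
      have h1 : orderOf (QuotientGroup.mk' M x) ∣ q ^ j := by
        apply orderOf_dvd_of_pow_eq_one
        rw [← map_pow, show x ^ q ^ j = 1 by simpa using congrArg Subtype.val hj, map_one]
      have h2 : orderOf (QuotientGroup.mk' M x) ∣ p :=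
        (_root_.orderOf_dvd_natCard _).trans (index_eq_card (H := M)).symm.dvd
      have := Nat.eq_one_of_dvd_coprimes (((Nat.coprime_primes hq hMp).2 hqp).pow_left j) h1 h2
      exact (QuotientGroup.eq_one_iff x).1 (orderOf_eq_one_iff.1 this)
    have hn' : (Q.subtype hQM : Subgroup M).Normal :=
      Cfsg.Agent.Transfer.nilpotent_sylow_normal (h M hM.1) _
    have hch : (Q.subtype hQM : Subgroup M).Characteristic :=
      (Q.subtype hQM).characteristic_of_normal hn'
    have : ((Q.subtype hQM : Subgroup M).map M.subtype).Normal := inferInstance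
    rwa [Sylow.coe_subtype, map_subgroupOf_eq_of_le hQM] at this
  obtain ⟨P⟩ : Nonempty (Sylow p G) := inferInstance
  have hPn : normalizer ((P : Subgroup G) : Set G) ≠ ⊤ := by
    intro ht
    refine hn (((Group.isNilpotent_of_finite_tfae (G := G)).out 0 3 rfl rfl).2 fun q hq Q => ?_)
    by_cases hqp : q = p
    · subst hqp
      haveI := Sylow.unique_of_normal P (normalizer_eq_top_iff.1 ht)
      rw [Subsingleton.elim Q P]; exact normalizer_eq_top_iff.1 ht
    · exact hnorm q hq.out hqp Q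
  obtain ⟨q, hq, hqp, Q, htop⟩ : ∃ q : ℕ, q.Prime ∧ q ≠ p ∧ ∃ Q : Sylow q G,
      (P : Subgroup G) ⊔ Q = ⊤ := by
    by_contra hcon
    push Not at hcon
    apply hPn
    rw [← card_eq_iff_eq_top]
    refine Nat.dvd_antisymm (card_subgroup_dvd_card _) ?_
    rw [Nat.dvd_iff_prime_pow_dvd_dvd]
    intro q k hq hk
    haveI := Fact.mk hq
    by_cases hqp : q = p
    · subst hqp
      exact (P.pow_dvd_card_of_pow_dvd_card hk).trans (card_dvd_of_le le_normalizer)
    · obtain ⟨Q⟩ : Nonempty (Sylow q G) := inferInstance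
      refine (Q.pow_dvd_card_of_pow_dvd_card hk).trans (card_dvd_of_le fun y hy => ?_)
      haveI := h _ (hcon q hq hqp Q)
      refine centralizer_le_normalizer _ (mem_centralizer_iff.2 fun a ha => ?_)
      have hco : (orderOf a).Coprime (orderOf y) := by
        obtain ⟨i, hi⟩ := IsPGroup.iff_orderOf.1 P.isPGroup' ⟨a, ha⟩
        obtain ⟨j, hj⟩ := IsPGroup.iff_orderOf.1 Q.isPGroup' ⟨y, hy⟩
        rw [Subgroup.orderOf_mk] at hi hj
        rw [hi, hj]
        exact Nat.Coprime.pow _ _ ((Nat.coprime_primes hMp hq).2 (Ne.symm hqp))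
      exact congrArg Subtype.val (Cfsg.Agent.Transfer.nilpotent_commute_of_coprime (h _ (hcon q hq hqp Q))
        (x := ⟨a, mem_sup_left ha⟩) (y := ⟨y, mem_sup_right hy⟩)
        (by simpa only [Subgroup.orderOf_mk] using hco)).eq
  haveI := Fact.mk hq
  have hQn := hnorm q hq hqp Q
  refine ⟨p, q, hMp, hq, Ne.symm hqp, P, Q, ?_, hQn, htop⟩
  have hPM : ¬ (P : Subgroup G) ≤ M := by
    intro hle
    have h1 := card_dvd_of_le hle
    rw [P.card_eq_multiplicity] at h1
    rw [← M.card_mul_index, Nat.factorization_mul Nat.card_pos.ne' hMp.ne_zero, Finsupp.coe_add,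
      Pi.add_apply, hMp.factorization_self,
      hMp.pow_dvd_iff_le_factorization Nat.card_pos.ne'] at h1
    omega
  obtain ⟨x, hxP, hxM⟩ := SetLike.not_le_iff_exists.1 hPM
  have hco : ∀ a ∈ (P : Subgroup G), ∀ b ∈ (Q : Subgroup G), (orderOf a).Coprime (orderOf b) := by
    intro a ha b hb
    obtain ⟨i, hi⟩ := IsPGroup.iff_orderOf.1 P.isPGroup' ⟨a, ha⟩
    obtain ⟨j, hj⟩ := IsPGroup.iff_orderOf.1 Q.isPGroup' ⟨b, hb⟩
    rw [Subgroup.orderOf_mk] at hi hj
    rw [hi, hj]
    exact Nat.Coprime.pow _ _ ((Nat.coprime_primes hMp hq).2 (Ne.symm hqp))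
  have hxtop : zpowers x ⊔ (Q : Subgroup G) = ⊤ := by
    by_contra hne
    have hPQ : ∀ a ∈ (P : Subgroup G), ∀ b ∈ (Q : Subgroup G), a * b = b * a := by
      intro y hy
      obtain ⟨m, hm, _, ⟨k, rfl⟩, rfl⟩ := mem_sup_of_normal_left.1
        ((sup_comm M (zpowers x)).trans (sup_eq_top_of_coatom hM (N := zpowers x)
          (fun hle => hxM (hle (mem_zpowers x)))) ▸ mem_top y : y ∈ M ⊔ zpowers x)
      intro b hb
      have hmP : m ∈ (P : Subgroup G) := by
        simpa using mul_mem hy (inv_mem (zpow_mem hxP k))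
      have hbM : b ∈ M := by
        obtain ⟨j, hj⟩ := IsPGroup.iff_orderOf.1 Q.isPGroup' ⟨b, hb⟩
        rw [Subgroup.orderOf_mk] at hj
        have h2 : orderOf (QuotientGroup.mk' M b) ∣ p :=
          (_root_.orderOf_dvd_natCard _).trans (index_eq_card (H := M)).symm.dvd
        have := Nat.eq_one_of_dvd_coprimes (((Nat.coprime_primes hq hMp).2 hqp).pow_left j)
          (hj ▸ orderOf_map_dvd (QuotientGroup.mk' M) b) h2
        exact (QuotientGroup.eq_one_iff b).1 (orderOf_eq_one_iff.1 this)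
      have c1 : Commute m b := congrArg Subtype.val
        (Cfsg.Agent.Transfer.nilpotent_commute_of_coprime (h M hM.1) (x := ⟨m, hm⟩) (y := ⟨b, hbM⟩)
          (by simpa only [Subgroup.orderOf_mk] using hco m hmP b hb)).eq
      have c2 : Commute x b := congrArg Subtype.val
        (Cfsg.Agent.Transfer.nilpotent_commute_of_coprime (h _ hne)
          (x := ⟨x, mem_sup_left (mem_zpowers x)⟩) (y := ⟨b, mem_sup_right hb⟩)
          (by simpa only [Subgroup.orderOf_mk] using hco x hxP b hb)).eq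
      exact (c1.mul_left (c2.zpow_left k)).eq
    apply hPn
    rw [eq_top_iff, ← htop]
    exact sup_le le_normalizer fun b hb =>
      centralizer_le_normalizer _ (mem_centralizer_iff.2 fun a ha => hPQ a ha b hb)
  have hc1 := card_sup_mul_card_inf (zpowers x) (Q : Subgroup G)
  have hc2 := card_sup_mul_card_inf (P : Subgroup G) (Q : Subgroup G)
  have hb2 : (P : Subgroup G) ⊓ Q = ⊥ := disjoint_iff.1 (disjoint_of_coprime_natCard (by
    rw [P.card_eq_multiplicity, Q.card_eq_multiplicity]
    exact Nat.Coprime.pow _ _ ((Nat.coprime_primes hMp hq).2 (Ne.symm hqp))))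
  have hb1 : zpowers x ⊓ (Q : Subgroup G) = ⊥ :=
    eq_bot_iff.2 ((inf_le_inf_right _ (zpowers_le.2 hxP)).trans hb2.le)
  rw [hxtop, hb1, Subgroup.card_top, card_bot, mul_one] at hc1
  rw [htop, hb2, Subgroup.card_top, card_bot, mul_one, hc1] at hc2
  have := eq_of_le_of_card_le (zpowers_le.2 hxP) (Nat.eq_of_mul_eq_mul_right Nat.card_pos hc2).ge
  rw [← this]
  infer_instance

end Cfsg.Agent.Solvable
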