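import Mathlib.GroupTheory.Nilpotent
import Mathlib.Data.Nat.Factorization.Basic
import Cfsg.Prelude.Def_SolvableStructure
import Cfsg.Agent.Lib.Solvable.Hall

/-!
Hall complement systems, Sylow systems and system normalizers of finite solvable groups.
-/

set_option autoImplicit false

namespace Cfsg.Agent.Solvable

open Subgroup
open scoped Pointwise commutatorElement

variable {G : Type*} [Group G]

/-- If the indices of `A` and `B` are coprime, the index of `A ⊓ B` is their product. -/
theorem index_inf_of_coprime [Finite G] {A B : Subgroup G} (h : A.index.Coprime B.index) :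
    (A ⊓ B).index = A.index * B.index :=
  le_antisymm index_inf_le (Nat.le_of_dvd (Nat.pos_of_ne_zero index_ne_zero_of_finite)
    (h.mul_dvd_of_dvd_of_dvd (index_dvd_of_le inf_le_left) (index_dvd_of_le inf_le_right)))

/-- If the indices of `A` and `B` are coprime, every element lies in `B * A`. -/
theorem exists_mul_eq_of_coprime_index [Finite G] {A B : Subgroup G}
    (h : A.index.Coprime B.index) (g : G) : ∃ b ∈ B, ∃ a ∈ A, g = b * a := by
  have hrel : A.relIndex B = A.index := by
    have h1 := relIndex_mul_index (inf_le_right : A ⊓ B ≤ B)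
    rw [inf_relIndex_right, index_inf_of_coprime h] at h1
    exact Nat.eq_of_mul_eq_mul_right (Nat.pos_of_ne_zero index_ne_zero_of_finite) h1
  have hst : MulAction.stabilizer B ((1 : G) : G ⧸ A) = A.subgroupOf B := by
    ext b
    rw [MulAction.mem_stabilizer_iff, mem_subgroupOf]
    change (((b : G) * 1 : G) : G ⧸ A) = ((1 : G) : G ⧸ A) ↔ _
    rw [QuotientGroup.eq]; simp
  have horb : MulAction.orbit B ((1 : G) : G ⧸ A) = Set.univ := by
    refine Set.eq_of_subset_of_ncard_le (Set.subset_univ _) ?_ (Set.toFinite _)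
    rw [← MulAction.index_stabilizer, hst, Set.ncard_univ, ← index_eq_card, ← hrel]
    exact le_rfl
  obtain ⟨b, hb⟩ := horb.ge (Set.mem_univ (g : G ⧸ A))
  refine ⟨b, b.2, (b : G)⁻¹ * g, ?_, by simp⟩
  change (((b : G) * 1 : G) : G ⧸ A) = (g : G ⧸ A) at hb
  rwa [QuotientGroup.eq, mul_one] at hb

/-- For `N` normal the index of `K ⊓ N` in `N` divides the index of `K`. -/
theorem relIndex_dvd_index_right_normal [Finite G] (K N : Subgroup G) [N.Normal] :
    K.relIndex N ∣ K.index := by
  have h1 := card_sup_mul_card_inf K N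
  have h2 := card_mul_relIndex (inf_le_right : K ⊓ N ≤ N)
  rw [inf_relIndex_right] at h2
  have h3 := card_mul_relIndex (le_sup_left : K ≤ K ⊔ N)
  rw [← h3, ← h2] at h1
  have : K.relIndex (K ⊔ N) = K.relIndex N := by
    apply Nat.eq_of_mul_eq_mul_left (Nat.mul_pos (Nat.card_pos (α := K))
      (Nat.card_pos (α := ↥(K ⊓ N))))
    calc _ = Nat.card K * K.relIndex (K ⊔ N) * Nat.card ↥(K ⊓ N) := by ring
      _ = _ := by rw [h1]; ring
  exact this ▸ relIndex_dvd_index_of_le le_sup_left

/-! ### Complement systems -/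

variable {K : Nat.Primes → Subgroup G}

theorem exists_isComplementSystem [Finite G] [Group.IsSolvable G] :
    ∃ K : Nat.Primes → Subgroup G, Cfsg.IsComplementSystem K := by
  have : ∀ p : Nat.Primes, ∃ H : Subgroup G,
      H.index = (p : ℕ) ^ (Nat.card G).factorization p := by
    intro p
    obtain ⟨H, hH⟩ := exists_hall
      (((mul_comm _ _).trans (Nat.ordProj_mul_ordCompl_eq_self (Nat.card G) p)).symm)
      ((Nat.coprime_ordCompl p.2 Nat.card_pos.ne').symm.pow_right _)
    refine ⟨H, ?_⟩
    have h1 := H.card_mul_index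
    rw [hH] at h1
    conv_rhs at h1 => rw [← Nat.ordProj_mul_ordCompl_eq_self (Nat.card G) p, mul_comm]
    exact Nat.eq_of_mul_eq_mul_left (hH ▸ Nat.card_pos) h1
  choose K hK using this
  exact ⟨K, hK⟩

theorem index_finset_inf [Finite G] (hK : Cfsg.IsComplementSystem K) (s : Finset Nat.Primes) :
    (⨅ q ∈ s, K q).index = ∏ q ∈ s, (q : ℕ) ^ (Nat.card G).factorization q := by
  classical
  induction s using Finset.induction with
  | empty => simp
  | @insert a s ha ih =>
    rw [Finset.iInf_insert, Finset.prod_insert ha, index_inf_of_coprime, ih, hK a]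
    rw [hK a, ih]
    refine Nat.Coprime.prod_right fun q hq => Nat.Coprime.pow _ _
      ((Nat.coprime_primes a.2 q.2).2 fun h => ha ?_)
    rwa [show a = q from Subtype.ext h]

theorem isCoprime_index_finset_inf [Finite G] (hK : Cfsg.IsComplementSystem K)
    (s : Finset Nat.Primes) (a : Nat.Primes) (ha : a ∉ s) :
    ((a : ℕ) ^ (Nat.card G).factorization a).Coprime (⨅ q ∈ s, K q).index := by
  rw [index_finset_inf hK]
  refine Nat.Coprime.prod_right fun q hq => Nat.Coprime.pow _ _
      ((Nat.coprime_primes a.2 q.2).2 fun h => ha ?_)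
  rwa [show a = q from Subtype.ext h]

/-- The prime divisors of the group order, as elements of `Nat.Primes`. -/
noncomputable def primesOf (G : Type*) [Group G] : Finset Nat.Primes :=
  (Nat.card G).primeFactors.subtype Nat.Prime

theorem prod_primesOf [Finite G] :
    ∏ q ∈ primesOf G, (q : ℕ) ^ (Nat.card G).factorization q = Nat.card G := by
  rw [primesOf]
  refine (Finset.prod_subtype_of_mem (s := (Nat.card G).primeFactors)
    (fun q => q ^ (Nat.card G).factorization q)
    (fun q hq => Nat.prime_of_mem_primeFactors hq)).trans ?_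
  exact Nat.prod_factorization_pow_eq_self Nat.card_pos.ne'

theorem pow_factorization_of_notMem [Finite G] {q : Nat.Primes} (hq : q ∉ primesOf G) :
    (q : ℕ) ^ (Nat.card G).factorization q = 1 := by
  rw [Nat.factorization_eq_zero_of_not_dvd, pow_zero]
  intro h
  apply hq
  exact (Finset.mem_subtype (p := Nat.Prime)).2 (Nat.mem_primeFactors.2 ⟨q.2, h, Nat.card_pos.ne'⟩)

/-- The intersection of all complements for primes outside `t`. -/
noncomputable def complInf (K : Nat.Primes → Subgroup G) (t : Finset Nat.Primes) : Subgroup G :=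
  open Classical in ⨅ q ∈ primesOf G \ t, K q

theorem card_complInf [Finite G] (hK : Cfsg.IsComplementSystem K) (t : Finset Nat.Primes) :
    Nat.card (complInf K t) = ∏ q ∈ t, (q : ℕ) ^ (Nat.card G).factorization q := by
  classical
  have h := (complInf K t).card_mul_index
  rw [complInf, index_finset_inf hK] at h
  conv_rhs at h => rw [← prod_primesOf (G := G), ← Finset.prod_inter_mul_prod_sdiff _ t]
  have hpos : 0 < ∏ q ∈ primesOf G \ t, (q : ℕ) ^ (Nat.card G).factorization q :=
    Finset.prod_pos fun q _ => pow_pos q.2.pos _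
  rw [complInf, Nat.eq_of_mul_eq_mul_right hpos h]
  exact Finset.prod_subset Finset.inter_subset_right fun q hq hq' =>
    pow_factorization_of_notMem fun h' => hq' (Finset.mem_inter.2 ⟨h', hq⟩)

theorem complInf_mono {t t' : Finset Nat.Primes} (h : t ⊆ t') : complInf K t ≤ complInf K t' := by
  classical
  exact biInf_mono fun q hq => Finset.sdiff_subset_sdiff le_rfl h hq

theorem card_complInf_singleton [Finite G] (hK : Cfsg.IsComplementSystem K) (p : Nat.Primes) :
    Nat.card (complInf K {p}) = (p : ℕ) ^ (Nat.card G).factorization p := by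
  rw [card_complInf hK, Finset.prod_singleton]

theorem coe_complInf_mul [Finite G] (hK : Cfsg.IsComplementSystem K) {p q : Nat.Primes}
    (hpq : p ≠ q) :
    (complInf K {p} : Set G) * (complInf K {q} : Set G) = complInf K ({p, q} : Finset Nat.Primes) := by
  classical
  refine Set.eq_of_subset_of_ncard_le ?_ ?_ (Set.toFinite _)
  · exact mul_subset (complInf_mono (by simp)) (complInf_mono (by simp))
  · have hinj : Function.Injective
        (fun x : (complInf K {p}) × (complInf K {q}) => (x.1 : G) * (x.2 : G)) := by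
      refine mul_injective_of_disjoint (disjoint_of_coprime_natCard ?_)
      rw [card_complInf_singleton hK, card_complInf_singleton hK]
      exact Nat.Coprime.pow _ _ ((Nat.coprime_primes p.2 q.2).2 fun h => hpq (Subtype.ext h))
    have hr : (complInf K {p} : Set G) * (complInf K {q} : Set G) =
        Set.range (fun x : (complInf K {p}) × (complInf K {q}) => (x.1 : G) * (x.2 : G)) := by
      ext x; simp [Set.mem_mul]
    rw [← Nat.card_coe_set_eq, ← Nat.card_coe_set_eq, hr, Nat.card_range_of_injective hinj,
      Nat.card_prod, card_complInf_singleton hK, card_complInf_singleton hK]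
    exact le_of_eq ((card_complInf hK _).trans (Finset.prod_pair hpq))

/-- A finite solvable group has a Sylow system. -/
theorem exists_sylowSystem [Finite G] [Group.IsSolvable G] :
    ∃ S : (p : Nat.Primes) → Sylow (p : ℕ) G,
      ∀ p q : Nat.Primes, (S p : Set G) * (S q : Set G) = (S q : Set G) * (S p : Set G) := by
  obtain ⟨K, hK⟩ := exists_isComplementSystem (G := G)
  refine ⟨fun p => haveI := Fact.mk p.2; Sylow.ofCard _ (card_complInf_singleton hK p),
    fun p q => ?_⟩
  haveI := Fact.mk p.2
  haveI := Fact.mk q.2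
  rcases eq_or_ne p q with rfl | hpq
  · rfl
  · simp only [← Sylow.coe_coe, Sylow.coe_ofCard]
    rw [coe_complInf_mul hK hpq, coe_complInf_mul hK hpq.symm, Finset.pair_comm]

/-- Two complement systems with the same image modulo a normal subgroup `N` are conjugate by an
element of `N`. -/
theorem exists_conj_complementSystem [Finite G] [Group.IsSolvable G] {A B : Nat.Primes → Subgroup G}
    (hA : Cfsg.IsComplementSystem A) (hB : Cfsg.IsComplementSystem B) (N : Subgroup G) [N.Normal]
    (hAB : ∀ p, A p ⊔ N = B p ⊔ N) : ∃ n ∈ N, ∀ p, MulAut.conj n • A p = B p := by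
  classical
  suffices h : ∀ s : Finset Nat.Primes, ∃ n ∈ N, ∀ p ∈ s, MulAut.conj n • A p = B p by
    obtain ⟨n, hn, h⟩ := h (primesOf G)
    refine ⟨n, hn, fun p => ?_⟩
    by_cases hp : p ∈ primesOf G
    · exact h p hp
    · have h1 : ∀ C : Nat.Primes → Subgroup G, Cfsg.IsComplementSystem C → C p = ⊤ :=
        fun C hC => index_eq_one.1 ((hC p).trans (pow_factorization_of_notMem hp))
      rw [h1 A hA, h1 B hB, Normal.conj_smul_eq_self]
  intro s
  induction s using Finset.induction with
  | empty => exact ⟨1, N.one_mem, by simp⟩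
  | @insert a s ha ih =>
    obtain ⟨n, hn, hs⟩ := ih
    set A' := MulAut.conj n • A a with hA'
    have hsup : A' ⊔ N = B a ⊔ N := by
      rw [← hAB a, hA']
      conv_lhs => rw [← Normal.conj_smul_eq_self n N, ← smul_sup]
      exact conj_smul_eq_self_of_mem (mem_sup_right hn)
    have hidx : A'.index = (a : ℕ) ^ (Nat.card G).factorization a := by
      rw [hA', index_conj_smul, hA a]
    have hcard : Nat.card A' = Nat.card (B a) := by
      have h1 := A'.card_mul_index
      have h2 := (B a).card_mul_index
      rw [hidx] at h1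
      rw [hB a] at h2
      exact Nat.eq_of_mul_eq_mul_right (pow_pos a.2.pos _) (h1.trans h2.symm)
    have hco : (Nat.card A').Coprime A'.index := by
      rw [hidx]
      have h1 := A'.card_mul_index
      rw [hidx] at h1
      have h2 : Nat.card A' = Nat.card G / (a : ℕ) ^ (Nat.card G).factorization a := by
        rw [Nat.div_eq_of_eq_mul_left (pow_pos a.2.pos _) h1.symm]
      rw [h2]
      exact (Nat.coprime_ordCompl a.2 Nat.card_pos.ne').symm.pow_right _
    have hle : A' ≤ B a ⊔ N := hsup ▸ le_sup_left
    obtain ⟨w, hw, hwA⟩ := exists_conj_of_subgroupOf hle le_sup_left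
      (hall_conj (card_mul_relIndex hle).symm
        (hco.coprime_dvd_right (relIndex_dvd_index_of_le hle))
        (A'.subgroupOf _) ((B a).subgroupOf _) (card_subgroupOf hle)
        (by rw [card_subgroupOf le_sup_left, hcard]))
    rw [mem_sup_of_normal_right] at hw
    obtain ⟨b, hb, n₁, hn₁, rfl⟩ := hw
    rw [conj_smul_mul, ← eq_inv_smul_iff, ← map_inv,
      conj_smul_eq_self_of_mem (H := B a) (inv_mem hb)] at hwA
    -- split `n₁` as an element of `(N ⊓ ⨅ B) * (N ⊓ A')`
    obtain ⟨d, hd, α, hα, he⟩ := exists_mul_eq_of_coprime_index (A := A'.subgroupOf N)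
      (B := (⨅ q ∈ s, B q).subgroupOf N) (by
        refine Nat.Coprime.coprime_dvd_left (relIndex_dvd_index_right_normal A' N) ?_
        refine Nat.Coprime.coprime_dvd_right (relIndex_dvd_index_right_normal _ N) ?_
        rw [hidx]; exact isCoprime_index_finset_inf hB s a ha) ⟨n₁, hn₁⟩
    have he' : n₁ = (d : G) * (α : G) := congrArg Subtype.val he
    rw [he', conj_smul_mul, conj_smul_eq_self_of_mem (H := A') (mem_subgroupOf.1 hα)] at hwA
    refine ⟨(d : G) * n, N.mul_mem d.2 hn, fun p hp => ?_⟩
    rw [conj_smul_mul]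
    rcases Finset.mem_insert.1 hp with rfl | hp
    · exact hwA
    · rw [hs p hp]
      exact conj_smul_eq_self_of_mem (mem_iInf.1 (mem_iInf.1 (mem_subgroupOf.1 hd) p) hp)

theorem isComplementSystem_map [Finite G] (hK : Cfsg.IsComplementSystem K) (N : Subgroup G)
    [N.Normal] : Cfsg.IsComplementSystem (fun p => (K p).map (QuotientGroup.mk' N)) := by
  intro p
  show ((K p).map (QuotientGroup.mk' N)).index = _
  have hd : ((K p).map (QuotientGroup.mk' N)).index ∣ (p : ℕ) ^ (Nat.card G).factorization p :=
    hK p ▸ index_map_dvd (H := K p) (QuotientGroup.mk'_surjective N)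
  obtain ⟨k, -, hk⟩ := (Nat.dvd_prime_pow p.2).1 hd
  rw [hk]
  congr 1
  have hc := ((K p).map (QuotientGroup.mk' N)).card_mul_index
  rw [hk] at hc
  rw [← hc, Nat.factorization_mul Nat.card_pos.ne' (pow_ne_zero _ p.2.ne_zero)]
  have h0 : (Nat.card ((K p).map (QuotientGroup.mk' N))).factorization p = 0 := by
    refine Nat.factorization_eq_zero_of_not_dvd fun h => ?_
    have h1 := (K p).card_mul_index
    rw [hK p] at h1
    have h2 : Nat.card (K p) = Nat.card G / (p : ℕ) ^ (Nat.card G).factorization p := by
      rw [Nat.div_eq_of_eq_mul_left (pow_pos p.2.pos _) h1.symm]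
    exact Nat.not_dvd_ordCompl p.2 Nat.card_pos.ne' (h2 ▸ h.trans (card_map_dvd _ _))
  rw [Finsupp.coe_add, Pi.add_apply, h0, zero_add, p.2.factorization_pow, Finsupp.single_eq_same]

theorem le_of_isPGroup_of_le_normalizer [Finite G] {p : ℕ} [Fact p.Prime] {X H : Subgroup G}
    (hX : IsPGroup p X) (hn : X ≤ normalizer (H : Set G)) (hp : p.Coprime H.index) : X ≤ H := by
  intro x hx
  have hd : (H.subgroupOf (normalizer (H : Set G))).index ∣ H.index :=
    relIndex_dvd_index_of_le le_normalizer
  obtain ⟨j, hj⟩ := hX ⟨x, hx⟩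
  have h1 : orderOf (QuotientGroup.mk' (H.subgroupOf (normalizer (H : Set G))) ⟨x, hn hx⟩) ∣
      p ^ j := by
    apply orderOf_dvd_of_pow_eq_one
    rw [← map_pow, QuotientGroup.mk'_apply, QuotientGroup.eq_one_iff, mem_subgroupOf,
      SubgroupClass.coe_pow]
    have hj' : x ^ p ^ j = 1 := by simpa using congrArg Subtype.val hj
    rw [hj']; exact one_mem H
  have h2 : orderOf (QuotientGroup.mk' (H.subgroupOf (normalizer (H : Set G))) ⟨x, hn hx⟩) ∣
      H.index := (_root_.orderOf_dvd_natCard _).trans (index_eq_card (H := H.subgroupOf _) ▸ hd)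
  have := Nat.eq_one_of_dvd_coprimes (hp.pow_left j) h1 h2
  rw [orderOf_eq_one_iff, QuotientGroup.mk'_apply, QuotientGroup.eq_one_iff,
    mem_subgroupOf] at this
  exact this

theorem mem_systemNormalizer_iff {g : G} :
    g ∈ Cfsg.systemNormalizer K ↔ ∀ p, MulAut.conj g • K p = K p := by
  rw [Cfsg.systemNormalizer, mem_iInf]
  refine forall_congr' fun p => ⟨fun h => ?_, fun h => ?_⟩
  · ext x
    rw [mem_conj_smul]
    exact (mem_normalizer_iff''.1 h x).symm
  · rw [mem_normalizer_iff'']
    intro x
    rw [← mem_conj_smul, h]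

theorem isNilpotent_systemNormalizer [Finite G] (hK : Cfsg.IsComplementSystem K) :
    Group.IsNilpotent (Cfsg.systemNormalizer K) := by
  classical
  set T := Cfsg.systemNormalizer K with hT
  refine ((Group.isNilpotent_of_finite_tfae (G := T)).out 0 3 rfl rfl).2
    fun p hp P => ?_
  let p' : Nat.Primes := ⟨p, hp.out⟩
  have hle : (P : Subgroup T).map T.subtype ≤ complInf K {p'} := by
    rw [complInf]
    refine le_iInf fun q => le_iInf fun hq => ?_
    refine le_of_isPGroup_of_le_normalizer (P.isPGroup'.map _)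
      ((map_subtype_le _).trans (iInf_le _ q)) ?_
    rw [hK q]
    refine Nat.Coprime.pow_right _ ((Nat.coprime_primes hp.out q.2).2 fun h => ?_)
    rw [Finset.mem_sdiff, Finset.mem_singleton] at hq
    exact hq.2 (Subtype.ext h.symm)
  have hpS : IsPGroup p ↥(complInf K {p'}) := IsPGroup.of_card (card_complInf_singleton hK p')
  have hpS' : IsPGroup p ↥((complInf K {p'}).subgroupOf T) :=
    hpS.comap_subtype
  have heq : (complInf K {p'}).subgroupOf T = P := by
    refine P.is_maximal' hpS' fun x hx => ?_
    exact hle (mem_map_of_mem _ hx)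
  rw [← heq]
  constructor
  rintro ⟨x, hx⟩ hxS ⟨g, hg⟩
  rw [mem_subgroupOf] at hxS ⊢
  rw [complInf] at hxS ⊢
  simp only [mem_iInf] at hxS ⊢
  intro q hq
  have := mem_systemNormalizer_iff.1 hg q
  rw [← this, mem_conj_smul]
  simpa [mul_assoc] using hxS q hq

theorem systemNormalizer_map [Finite G] [Group.IsSolvable G] (hK : Cfsg.IsComplementSystem K)
    (N : Subgroup G) [N.Normal] :
    Cfsg.systemNormalizer (fun p => (K p).map (QuotientGroup.mk' N)) =
      (Cfsg.systemNormalizer K).map (QuotientGroup.mk' N) := by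
  refine le_antisymm (fun q hq => ?_) ?_
  · obtain ⟨x, rfl⟩ := QuotientGroup.mk'_surjective N q
    rw [mem_systemNormalizer_iff] at hq
    have hA : Cfsg.IsComplementSystem (fun p => MulAut.conj x • K p) := fun p =>
      (index_conj_smul x (K p)).trans (hK p)
    obtain ⟨n, hn, h⟩ := exists_conj_complementSystem hA hK N (fun p => by
      have := congrArg (Subgroup.comap (QuotientGroup.mk' N))
        ((map_conj_smul (QuotientGroup.mk' N) x (K p)).trans (hq p))
      rwa [comap_map_mk', comap_map_mk'] at this)
    refine ⟨n * x, mem_systemNormalizer_iff.2 fun p => (conj_smul_mul n x _).trans (h p), ?_⟩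
    rw [map_mul, QuotientGroup.mk'_apply, (QuotientGroup.eq_one_iff n).2 hn, one_mul]
  · rintro _ ⟨x, hx, rfl⟩
    refine mem_systemNormalizer_iff.2 fun p => ?_
    rw [← map_conj_smul, (mem_systemNormalizer_iff.1 hx) p]

theorem normalClosure_systemNormalizer [Finite G] [Group.IsSolvable G]
    (hK : Cfsg.IsComplementSystem K) :
    normalClosure ((Cfsg.systemNormalizer K : Subgroup G) : Set G) = ⊤ := by
  set R := normalClosure ((Cfsg.systemNormalizer K : Subgroup G) : Set G) with hR
  by_contra hne
  have hnt : Nontrivial (G ⧸ R) := by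
    by_contra h
    rw [not_nontrivial_iff_subsingleton] at h
    exact hne (eq_top_iff.2 fun x _ => (QuotientGroup.eq_one_iff x).1 (Subsingleton.elim _ _))
  have hlt : commutator (G ⧸ R) < ⊤ := Group.IsSolvable.commutator_lt_top_of_nontrivial _
  set M := (commutator (G ⧸ R)).comap (QuotientGroup.mk' R) with hM
  have hcM : commutator G ≤ M := by
    rw [hM, ← map_le_iff_le_comap, map_commutator_eq]
    exact commutator_mono le_top le_top
  have hTM : Cfsg.systemNormalizer K ≤ M := by
    intro x hx
    rw [hM, mem_comap, QuotientGroup.mk'_apply,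
      (QuotientGroup.eq_one_iff x).2 (subset_normalClosure hx)]
    exact one_mem _
  have h1 : (Cfsg.systemNormalizer K).map (QuotientGroup.mk' M) = ⊥ := by
    rw [Subgroup.map_eq_bot_iff, QuotientGroup.ker_mk']; exact hTM
  have h2 : Cfsg.systemNormalizer (fun p => (K p).map (QuotientGroup.mk' M)) = ⊤ := by
    refine eq_top_iff.2 fun q _ => mem_systemNormalizer_iff.2 fun p => ?_
    obtain ⟨g, rfl⟩ := QuotientGroup.mk'_surjective M q
    rw [← map_conj_smul, map_eq_map_iff, QuotientGroup.ker_mk']
    have hcomm : ∀ A : Subgroup G, ∀ g : G, MulAut.conj g • A ⊔ M ≤ A ⊔ M := fun A g => by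
      refine sup_le (fun y hy => ?_) le_sup_right
      have hy' := mem_conj_smul.1 hy
      have : y = ⁅g, g⁻¹ * y * g⁆ * (g⁻¹ * y * g) := by
        rw [commutatorElement_def]; group
      rw [this]
      exact mul_mem (mem_sup_right (hcM (commutator_mem_commutator (mem_top _) (mem_top _))))
        (mem_sup_left hy')
    refine le_antisymm (hcomm _ g) ?_
    calc K p ⊔ M = MulAut.conj g⁻¹ • (MulAut.conj g • K p) ⊔ M := by
          rw [map_inv, inv_smul_smul]
      _ ≤ _ := hcomm _ g⁻¹
  rw [systemNormalizer_map hK M, h1] at h2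
  have hMtop : M = ⊤ := by
    refine eq_top_iff.2 fun x _ => ?_
    have : (x : G ⧸ M) ∈ (⊥ : Subgroup (G ⧸ M)) := h2 ▸ mem_top _
    exact (QuotientGroup.eq_one_iff x).1 (mem_bot.1 this)
  exact hlt.ne (by rw [← map_comap_eq_self_of_surjective (QuotientGroup.mk'_surjective R)
    (commutator (G ⧸ R)), ← hM, hMtop, map_top_of_surjective _ (QuotientGroup.mk'_surjective R)])

end Cfsg.Agent.Solvable
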