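import Mathlib.GroupTheory.Sylow
import Mathlib.GroupTheory.QuotientGroup.Basic
import Mathlib.Data.ZMod.Basic
import Mathlib.Algebra.Field.ZMod
import Mathlib.Algebra.BigOperators.Fin

/-!
For a `p`-group `P` acting on an abelian group `V` of order prime to `p`:
`(∏ x, |C_V(x)|) ^ p ≤ |V| ^ |P| * |C_V(P)| ^ ((p - 1) |P|)`.
-/

set_option autoImplicit false

namespace Cfsg.Agent.Solvable

open Subgroup

universe u

variable {P : Type*} [Group P] {V : Type*} [CommGroup V]

/-- The fixed points of one element. -/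
def fixSub (φ : P →* MulAut V) (x : P) : Subgroup V where
  carrier := {v | φ x v = v}
  one_mem' := map_one _
  mul_mem' {a b} ha hb := by
    simp only [Set.mem_setOf_eq] at *
    rw [map_mul, ha, hb]
  inv_mem' {a} ha := by
    simp only [Set.mem_setOf_eq] at *
    rw [map_inv, ha]

theorem mem_fixSub {φ : P →* MulAut V} {x : P} {v : V} : v ∈ fixSub φ x ↔ φ x v = v := Iff.rfl

theorem fixSub_pow {φ : P →* MulAut V} {x : P} {v : V} (hv : v ∈ fixSub φ x) (t : ℕ) :
    v ∈ fixSub φ (x ^ t) := by
  rw [mem_fixSub]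
  induction t with
  | zero => simp
  | succ t ih => rw [pow_succ, map_mul, MulAut.mul_apply, mem_fixSub.1 hv, ih]

variable {p : ℕ} [Fact p.Prime]

/-- The norm map of `⟨y⟩`, for `y ^ p = 1`. -/
noncomputable def normMap (φ : P →* MulAut V) (y : P) : V →* V where
  toFun v := ∏ t : ZMod p, φ (y ^ t.val) v
  map_one' := by simp
  map_mul' a b := by simp [Finset.prod_mul_distrib]

theorem normMap_apply (φ : P →* MulAut V) (y : P) (v : V) :
    normMap (p := p) φ y v = ∏ t : ZMod p, φ (y ^ t.val) v := rfl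

theorem normMap_of_fixed (φ : P →* MulAut V) (y : P) {v : V} (hv : v ∈ fixSub φ y) :
    normMap (p := p) φ y v = v ^ p := by
  rw [normMap_apply, Finset.prod_congr rfl fun t _ => mem_fixSub.1 (fixSub_pow hv t.val),
    Finset.prod_const, Finset.card_univ, ZMod.card]

theorem pow_val_add_of_pow {y : P} (hy : y ^ p = 1) (s t : ZMod p) :
    y ^ (s + t).val = y ^ s.val * y ^ t.val := by
  rw [← pow_add, ZMod.val_add]
  exact (pow_eq_pow_mod _ hy).symm

theorem normMap_mem_fixSub_self (φ : P →* MulAut V) {z : P} (hz : z ^ p = 1) (v : V) :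
    normMap (p := p) φ z v ∈ fixSub φ z := by
  rw [mem_fixSub, normMap_apply, map_prod]
  refine Fintype.prod_equiv (Equiv.addRight (1 : ZMod p)) _ _ fun t => ?_
  rw [Equiv.coe_addRight, pow_val_add_of_pow hz, ← MulAut.mul_apply, ← map_mul,
    ZMod.val_one, pow_one]
  rw [← pow_succ' z t.val, pow_succ]

theorem normMap_mem_fixSub (φ : P →* MulAut V) {z y : P} (hc : Commute y z) {v : V}
    (hv : v ∈ fixSub φ y) : normMap (p := p) φ z v ∈ fixSub φ y := by
  rw [mem_fixSub, normMap_apply, map_prod]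
  refine Finset.prod_congr rfl fun t _ => ?_
  rw [← MulAut.mul_apply, ← map_mul, (hc.pow_right _).eq, map_mul, MulAut.mul_apply,
    mem_fixSub.1 hv]

/-- The key counting inequality for one element `x` and the central element `z`. -/
theorem prod_fixSub_le [Finite V] (φ : P →* MulAut V) (hcop : (Nat.card V).Coprime p) {x z : P}
    (hzp : z ^ p = 1) (hxz : Commute x z) :
    (∏ j : ZMod p, Nat.card (fixSub φ (x * z ^ j.val))) * Nat.card (fixSub φ z) ≤
      Nat.card V * Nat.card ↥(fixSub φ z ⊓ fixSub φ x) ^ p := by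
  classical
  set D := fixSub φ z ⊓ fixSub φ x with hD
  set T := normMap (p := p) φ z with hT
  have hcomm : ∀ j : ZMod p, Commute (x * z ^ j.val) z := fun j =>
    hxz.mul_left ((Commute.refl z).pow_left _)
  have hTD : ∀ (j : ZMod p) (u : fixSub φ (x * z ^ j.val)), T u ∈ D := fun j u => by
    refine ⟨normMap_mem_fixSub_self φ hzp _, ?_⟩
    have h1 : φ (z ^ j.val) (T u) = T u :=
      mem_fixSub.1 (fixSub_pow (normMap_mem_fixSub_self φ hzp _) _)
    have h2 := mem_fixSub.1 (normMap_mem_fixSub (p := p) φ (hcomm j) u.2)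
    rw [map_mul, MulAut.mul_apply, h1] at h2
    exact h2
  let Ψ : ((j : ZMod p) → fixSub φ (x * z ^ j.val)) × fixSub φ z →* V × (ZMod p → D) :=
    { toFun := fun a => ((∏ j, (a.1 j : V)) * a.2, fun j => ⟨T (a.1 j), hTD j _⟩)
      map_one' := by
        refine Prod.ext (by simp) (funext fun j => Subtype.ext ?_)
        simp
      map_mul' := fun a b => by
        refine Prod.ext ?_ (funext fun j => Subtype.ext ?_)
        · simp only [Prod.fst_mul, Prod.snd_mul, Pi.mul_apply, Subgroup.coe_mul,
            Finset.prod_mul_distrib]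
          exact mul_mul_mul_comm _ _ _ _
        · simp }
  have hpow : ∀ v : V, v ^ p = 1 → v = 1 := fun v hv => orderOf_eq_one_iff.1
    (Nat.eq_one_of_dvd_coprimes hcop (orderOf_dvd_natCard v) (orderOf_dvd_of_pow_eq_one hv))
  have hinj : Function.Injective Ψ := by
    rw [injective_iff_map_eq_one]
    rintro ⟨a, w⟩ h
    have h1 : (∏ j, (a j : V)) * w = 1 := congrArg Prod.fst h
    have h2 : ∀ j, T (a j) = 1 := fun j =>
      congrArg Subtype.val (congrFun (congrArg Prod.snd h) j)
    have hw : (w : V) = 1 := by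
      apply hpow
      have h3 := congrArg T h1
      rw [map_mul, map_prod, Finset.prod_eq_one (fun j _ => h2 j), one_mul, map_one] at h3
      rwa [hT, normMap_of_fixed φ z w.2] at h3
    rw [hw, mul_one] at h1
    have ha : ∀ i, (a i : V) = 1 := by
      intro i
      apply hpow
      have key : ∀ (j : ZMod p) (t : ℕ),
          φ ((x * z ^ i.val) ^ t) (a j) = φ (z ^ ((i - j) * (t : ZMod p)).val) (a j) := by
        intro j t
        have hsplit : (x * z ^ i.val) ^ t = z ^ ((i - j) * (t : ZMod p)).val * (x * z ^ j.val) ^ t := by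
          have h4 : x * z ^ i.val = z ^ (i - j).val * (x * z ^ j.val) := by
            rw [← mul_assoc, ← (hxz.pow_right _).eq, mul_assoc, ← pow_val_add_of_pow hzp,
              sub_add_cancel]
          rw [h4, Commute.mul_pow ((hcomm j).symm.pow_left _), ← pow_mul]
          congr 1
          rw [ZMod.val_mul, ZMod.val_natCast, Nat.mul_mod_mod]
          exact pow_eq_pow_mod _ hzp
        rw [hsplit, map_mul, MulAut.mul_apply, mem_fixSub.1 (fixSub_pow (a j).2 t)]
      have h5 : ∏ j, ∏ t : ZMod p, φ ((x * z ^ i.val) ^ t.val) (a j) = 1 := by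
        rw [Finset.prod_comm]
        refine Finset.prod_eq_one fun t _ => ?_
        rw [← map_prod, h1, map_one]
      simp only [key, ZMod.natCast_val, ZMod.cast_id', id_eq] at h5
      rw [Finset.prod_eq_single i] at h5
      · simpa using h5
      · intro j _ hji
        refine Eq.trans ?_ (h2 j)
        rw [hT, normMap_apply]
        exact Fintype.prod_equiv (Equiv.mulLeft₀ (i - j) (sub_ne_zero.2 hji.symm)) _ _ fun t => rfl
      · exact fun h => absurd (Finset.mem_univ i) h
    exact Prod.ext (funext fun i => Subtype.ext (ha i)) (Subtype.ext hw)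
  have h := Nat.card_le_card_of_injective Ψ hinj
  rwa [Nat.card_prod, Nat.card_pi, Nat.card_prod, Nat.card_fun, Nat.card_zmod] at h

theorem fixed_product_le.{w} {P : Type w} [Group P] [Finite P] [Fintype P] {V : Type u}
    [CommGroup V] [Finite V] (hP : IsPGroup p P) (hcop : (Nat.card V).Coprime p)
    (φ : P →* MulAut V) :
    (∏ x : P, Nat.card (fixSub φ x)) ^ p ≤
      Nat.card V ^ Nat.card P *
        Nat.card {v : V // ∀ x, φ x v = v} ^ ((p - 1) * Nat.card P) := by
  classical
  have hp : p.Prime := Fact.out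
  induction hk : Nat.card P using Nat.strong_induction_on generalizing P V with
  | _ k ih =>
  subst hk
  rcases subsingleton_or_nontrivial P with hs | hs
  · have hcard : Nat.card P = 1 := Nat.card_eq_one_iff_unique.2 ⟨hs, ⟨1⟩⟩
    have hall : ∀ (v : V) (x : P), φ x v = v := fun v x => by
      rw [Subsingleton.elim x 1, map_one, MulAut.one_apply]
    have h1 : ∀ x : P, Nat.card (fixSub φ x) = Nat.card V := fun x =>
      Nat.card_congr (Equiv.subtypeUnivEquiv fun v => hall v x)
    rw [Finset.prod_congr rfl fun x _ => h1 x, Finset.prod_const, Finset.card_univ,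
      ← Nat.card_eq_fintype_card, hcard, pow_one, Nat.mul_one,
      Nat.card_congr (Equiv.subtypeUnivEquiv hall), ← pow_succ',
      Nat.sub_add_cancel hp.one_le]
  haveI := hP.center_nontrivial
  have hdvd : p ∣ Nat.card (center P) := by
    obtain ⟨n, hn0, hn⟩ := (hP.to_subgroup (center P)).nontrivial_iff_card.1 inferInstance
    exact hn ▸ dvd_pow_self p hn0.ne'
  obtain ⟨⟨z, hzc⟩, hz⟩ := exists_prime_orderOf_dvd_card' p hdvd
  rw [Subgroup.orderOf_mk] at hz
  have hzp : z ^ p = 1 := hz ▸ pow_orderOf_eq_one z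
  set Z := zpowers z with hZ
  haveI hZn : Z.Normal := ⟨fun n hn g => by
    obtain ⟨i, rfl⟩ := hn
    have hgz : Commute g z := mem_center_iff.1 hzc g
    have h : Commute g (z ^ i) := hgz.zpow_right i
    rw [h.eq, mul_inv_cancel_right]
    exact zpow_mem (mem_zpowers z) i⟩
  haveI := Fintype.ofFinite (P ⧸ Z)
  set W := fixSub φ z with hW
  have hWinv : ∀ (x : P) (v : V), v ∈ W → φ x v ∈ W := fun x v hv => by
    rw [hW, mem_fixSub, ← MulAut.mul_apply, ← map_mul, ← (mem_center_iff.1 hzc x), map_mul,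
      MulAut.mul_apply, mem_fixSub.1 hv]
  let φW : P →* MulAut W :=
    { toFun := fun x =>
        { toFun := fun v => ⟨φ x v, hWinv x v v.2⟩
          invFun := fun v => ⟨φ x⁻¹ v, hWinv _ v v.2⟩
          left_inv := fun v => Subtype.ext (by simp)
          right_inv := fun v => Subtype.ext (by simp)
          map_mul' := fun a b => Subtype.ext (by simp) }
      map_one' := by ext v; simp
      map_mul' := fun a b => by ext v; simp }
  have hker : Z ≤ φW.ker := zpowers_le.2 (by ext v; exact mem_fixSub.1 v.2)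
  set ψ := QuotientGroup.lift Z φW hker with hψ
  have hcardP : Nat.card P = p * Nat.card (P ⧸ Z) := by
    rw [card_eq_card_quotient_mul_card_subgroup Z, hZ, Nat.card_zpowers, hz, mul_comm]
  have hlt : Nat.card (P ⧸ Z) < Nat.card P := by
    rw [hcardP]; exact lt_mul_of_one_lt_left Nat.card_pos hp.one_lt
  have IH := ih _ hlt (hP.to_quotient Z)
    (hcop.coprime_dvd_left (card_subgroup_dvd_card W)) ψ rfl
  have hDfix : ∀ x : P, Nat.card (fixSub ψ (x : P ⧸ Z)) = Nat.card ↥(W ⊓ fixSub φ x) := fun x =>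
    Nat.card_congr ⟨fun v => ⟨v.1.1, v.1.2, congrArg Subtype.val v.2⟩,
      fun v => ⟨⟨v.1, v.2.1⟩, Subtype.ext v.2.2⟩, fun _ => rfl, fun _ => rfl⟩
  have hCP : Nat.card {v : W // ∀ q, ψ q v = v} = Nat.card {v : V // ∀ x, φ x v = v} :=
    Nat.card_congr ⟨fun v => ⟨v.1.1, fun x => congrArg Subtype.val (v.2 x)⟩,
      fun v => ⟨⟨v.1, v.2 z⟩, fun q => QuotientGroup.induction_on q fun x => Subtype.ext (v.2 x)⟩,
      fun _ => rfl, fun _ => rfl⟩
  rw [hCP] at IH
  have hprodW : ∏ x : P, Nat.card ↥(W ⊓ fixSub φ x) =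
      (∏ q : P ⧸ Z, Nat.card (fixSub ψ q)) ^ p := by
    rw [← Finset.prod_congr rfl (fun x _ => hDfix x),
      ← Fintype.prod_fiberwise (fun x : P => (x : P ⧸ Z)) (fun x => Nat.card (fixSub ψ (x : P ⧸ Z))),
      ← Finset.prod_pow]
    refine Finset.prod_congr rfl fun q _ => ?_
    rw [Finset.prod_congr rfl (g := fun _ => Nat.card (fixSub ψ q)) fun i _ => by rw [i.2],
      Finset.prod_const, Finset.card_univ, ← Nat.card_eq_fintype_card]
    congr 1
    obtain ⟨y, rfl⟩ := QuotientGroup.mk_surjective q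
    rw [← hz, ← Nat.card_zpowers]
    exact Nat.card_congr ⟨fun x => ⟨y⁻¹ * x.1, QuotientGroup.eq.1 x.2.symm⟩,
      fun s => ⟨y * s.1, (QuotientGroup.eq.2 (by
        rw [inv_mul_cancel_left]; exact s.2)).symm⟩,
      fun x => Subtype.ext (mul_inv_cancel_left _ _), fun s => Subtype.ext (inv_mul_cancel_left _ _)⟩
  have hstep : ∀ x : P, (∏ j : ZMod p, Nat.card (fixSub φ (x * z ^ j.val))) * Nat.card W ≤
      Nat.card V * Nat.card ↥(W ⊓ fixSub φ x) ^ p :=
    fun x => prod_fixSub_le φ hcop hzp (mem_center_iff.1 hzc x)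
  have hall := Finset.prod_le_prod' (s := Finset.univ) fun x _ => hstep x
  rw [Finset.prod_mul_distrib, Finset.prod_mul_distrib, Finset.prod_comm, Finset.prod_const,
    Finset.prod_const, Finset.card_univ, ← Nat.card_eq_fintype_card, Finset.prod_pow, hprodW]
    at hall
  have hj : ∀ j : ZMod p, ∏ x : P, Nat.card (fixSub φ (x * z ^ j.val)) =
      ∏ x : P, Nat.card (fixSub φ x) := fun j =>
    Fintype.prod_equiv (Equiv.mulRight (z ^ j.val)) _ _ fun x => rfl
  rw [Finset.prod_congr rfl fun j _ => hj j, Finset.prod_const, Finset.card_univ, ZMod.card] at hall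
  have IH' := Nat.pow_le_pow_left IH p
  have hWpos : 0 < Nat.card W ^ Nat.card P := pow_pos Nat.card_pos _
  refine Nat.le_of_mul_le_mul_right (hall.trans ?_) hWpos
  refine (Nat.mul_le_mul_left _ IH').trans (le_of_eq ?_)
  rw [mul_pow, ← pow_mul, ← pow_mul, mul_assoc (p - 1), mul_comm (Nat.card (P ⧸ Z)) p, ← hcardP]
  ring

end Cfsg.Agent.Solvable
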