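import Cfsg.Agent.Lib.Solvable.Subnormalizer
import Cfsg.Agent.Lib.Solvable.Basic
import Mathlib.Data.Nat.Factorization.Basic
import Mathlib.Algebra.BigOperators.Fin
import Mathlib.Algebra.BigOperators.Associated

/-!
How `normCount` and `sylCount` behave under quotients by `p`- and `p'`-groups, and along a
`p`-series.
-/

set_option autoImplicit false

namespace Cfsg.Agent.Solvable

open Subgroup
open scoped Pointwise

variable {G G' : Type*} [Group G] [Group G'] [Finite G] [Finite G'] {p : ℕ} [Fact p.Prime]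

/-- The fibres of a surjection all have the size of the kernel. -/
theorem card_preimage (f : G →* G') (hf : Function.Surjective f) (S : G' → Prop) :
    Nat.card {g : G // S (f g)} = Nat.card f.ker * Nat.card {y : G' // S y} := by
  choose s hs using hf
  rw [← Nat.card_prod]
  exact Nat.card_congr
    { toFun := fun g => (⟨g.1 * (s (f g.1))⁻¹, by rw [MonoidHom.mem_ker, map_mul, map_inv, hs,
        mul_inv_cancel]⟩, ⟨f g.1, g.2⟩)
      invFun := fun x => ⟨(x.1 : G) * s x.2.1, by
        rw [map_mul, MonoidHom.mem_ker.1 x.1.2, one_mul, hs]; exact x.2.2⟩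
      left_inv := fun g => by ext; simp
      right_inv := fun ⟨⟨k, hk⟩, ⟨y, hy⟩⟩ => by
        have : f (k * s y) = y := by rw [map_mul, MonoidHom.mem_ker.1 hk, one_mul, hs]
        ext <;> simp [this] }

/-- Passing to the quotient by a normal `p`-subgroup. -/
theorem normCount_of_isPGroup_ker (f : G →* G') (hf : Function.Surjective f)
    (hker : IsPGroup p f.ker) (H : Subgroup G) :
    normCount p H = Nat.card f.ker * normCount p (H.map f) := by
  rw [normCount, normCount, ← card_preimage f hf]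
  refine Nat.card_congr (Equiv.subtypeEquivRight fun g => ⟨?_, ?_⟩)
  · rintro ⟨R, hR, hHR, hg⟩
    exact ⟨R.map f, hR.map f, map_mono hHR, le_normalizer_map f (mem_map_of_mem f hg)⟩
  · rintro ⟨R, hR, hHR, hg⟩
    refine ⟨R.comap f, hR.comap_of_ker_isPGroup f hker, map_le_iff_le_comap.1 hHR, ?_⟩
    rw [mem_normalizer_iff] at hg ⊢
    intro x
    simp only [mem_comap, map_mul, map_inv]
    exact hg (f x)

theorem card_normalizer_mapSurjective (f : G →* G') (hf : Function.Surjective f)
    (hker : (Nat.card f.ker).Coprime p) (Q : Sylow p G) :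
    Nat.card (normalizer ((Q : Subgroup G) : Set G)) =
      Nat.card ↥(f.ker ⊓ normalizer ((Q : Subgroup G) : Set G)) *
        Nat.card (normalizer ((Q.mapSurjective hf : Subgroup G') : Set G')) := by
  set NQ := normalizer ((Q : Subgroup G) : Set G) with hNQ
  set NQ' := normalizer ((Q.mapSurjective hf : Subgroup G') : Set G') with hNQ'
  have hto : ∀ g ∈ NQ, f g ∈ NQ' := fun g hg => by
    rw [hNQ', Sylow.coe_mapSurjective]
    exact le_normalizer_map f (mem_map_of_mem f hg)
  let φ : NQ →* NQ' := (f.comp NQ.subtype).codRestrict NQ' fun g => hto g g.2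
  have hφ : Function.Surjective φ := by
    rintro ⟨y, hy⟩
    obtain ⟨g, rfl⟩ := hf y
    -- `g` moves `Q` to another Sylow subgroup of `Q ⊔ ker f`
    set X := ((Q : Subgroup G).map f).comap f with hX
    have hQX : (Q : Subgroup G) ≤ X := le_comap_map f _
    have hgQX : ((g • Q : Sylow p G) : Subgroup G) ≤ X := by
      intro x hx
      rw [Sylow.coe_subgroup_smul] at hx
      have hx' := mem_conj_smul.1 hx
      rw [hNQ', Sylow.coe_mapSurjective] at hy
      have := (mem_normalizer_iff.1 hy (f (g⁻¹ * x * g))).1 (mem_map_of_mem f hx')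
      rw [hX, mem_comap]
      simpa [map_mul, mul_assoc] using this
    obtain ⟨u, hu⟩ := MulAction.exists_smul_eq X (Q.subtype hQX) ((g • Q : Sylow p G).subtype hgQX)
    rw [Sylow.smul_subtype] at hu
    have hu' : (u : G) • Q = g • Q := Sylow.subtype_injective hu
    have huX : (u : G) ∈ (f.ker ⊔ (Q : Subgroup G)) := by
      rw [sup_comm, ← comap_map_eq f]; exact u.2
    obtain ⟨n, hn, q, hq, hnq⟩ := mem_sup_of_normal_left.1 huX
    have hnqQ : n • Q = g • Q := by
      rw [← hu', ← hnq, mul_smul, Sylow.smul_eq_iff_mem_normalizer.2 (le_normalizer hq)]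
    have hmem : n⁻¹ * g ∈ NQ := Sylow.smul_eq_iff_mem_normalizer.1 (by
      rw [mul_smul, ← hnqQ, inv_smul_smul])
    exact ⟨⟨n⁻¹ * g, hmem⟩, Subtype.ext (by
      change f (n⁻¹ * g) = f g
      rw [map_mul, map_inv, MonoidHom.mem_ker.1 hn, inv_one, one_mul])⟩
  have h1 := card_preimage φ hφ (fun _ => True)
  rw [Nat.card_congr (Equiv.subtypeUnivEquiv fun _ => trivial),
    Nat.card_congr (Equiv.subtypeUnivEquiv fun _ => trivial)] at h1
  rw [h1]
  congr 1
  exact Nat.card_congr ⟨fun x => ⟨x.1.1, congrArg Subtype.val x.2, x.1.2⟩,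
    fun x => ⟨⟨x.1, x.2.2⟩, Subtype.ext x.2.1⟩, fun _ => rfl, fun _ => rfl⟩

/-- Passing to the quotient by a normal `p'`-subgroup. -/
theorem normCount_of_coprime_ker (f : G →* G') (hf : Function.Surjective f)
    (hker : (Nat.card f.ker).Coprime p) (H : Subgroup G) (hH : IsPGroup p H) :
    normCount p H = Nat.card ↥(f.ker ⊓ centralizer (H : Set G)) * normCount p (H.map f) := by
  classical
  set N := f.ker with hN
  set C := N ⊓ centralizer (H : Set G) with hC
  obtain ⟨P⟩ : Nonempty (Sylow p G) := inferInstance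
  set P' := P.mapSurjective hf with hP'
  rw [normCount_eq_sylCount P, normCount_eq_sylCount P', sylCount, sylCount]
  set D := Nat.card ↥(N ⊓ normalizer ((P : Subgroup G) : Set G)) with hD
  set nP' := Nat.card (normalizer ((P' : Subgroup G') : Set G')) with hnP'
  have hDQ : ∀ Q : Sylow p G, Nat.card ↥(N ⊓ normalizer ((Q : Subgroup G) : Set G)) = D := by
    intro Q
    have h1 := card_normalizer_mapSurjective f hf hker Q
    rw [card_normalizer_sylow P Q, card_normalizer_sylow P' (Q.mapSurjective hf),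
      card_normalizer_mapSurjective f hf hker P] at h1
    exact (Nat.eq_of_mul_eq_mul_right Nat.card_pos h1).symm
  have hQinf : ∀ Q : Sylow p G, (Q : Subgroup G) ⊓ N = ⊥ := fun Q => by
    refine (disjoint_of_coprime_natCard ?_).eq_bot
    obtain ⟨e, he⟩ := IsPGroup.iff_card.1 Q.isPGroup'
    rw [he]
    exact hker.symm.pow_left e
  -- the fibre over a Sylow subgroup containing the image of `H`
  have hfib : ∀ Q' : {Q' : Sylow p G' // H.map f ≤ (Q' : Subgroup G')},
      Nat.card {Q : Sylow p G // H ≤ (Q : Subgroup G) ∧ Q.mapSurjective hf = Q'.1} * D =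
        Nat.card C := by
    rintro ⟨Q', hQ'⟩
    set X := (Q' : Subgroup G').comap f with hX
    have hHX : H ≤ X := map_le_iff_le_comap.1 hQ'
    obtain ⟨Q₁, hQ₁⟩ := Sylow.mapSurjective_surjective hf p Q'
    have hQ₁X : (Q₁ : Subgroup G) ≤ X := fun x hx => by
      rw [hX, mem_comap, ← hQ₁, Sylow.coe_mapSurjective]; exact mem_map_of_mem f hx
    have hXeq : ∀ x ∈ X, x ∈ N ⊔ (Q₁ : Subgroup G) := fun x hx => by
      rw [hX, mem_comap, ← hQ₁, Sylow.coe_mapSurjective, ← mem_comap, comap_map_eq] at hx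
      rwa [sup_comm]
    obtain ⟨S, hS⟩ := (hH.comap_of_injective X.subtype X.subtype_injective :
      IsPGroup p (H.subgroupOf X)).exists_le_sylow
    obtain ⟨x, hx⟩ := MulAction.exists_smul_eq X (Q₁.subtype hQ₁X) S
    rw [Sylow.smul_subtype] at hx
    set Q₀ := (x : G) • Q₁ with hQ₀
    have hmap : ∀ n ∈ N, ∀ Q : Sylow p G, (n • Q).mapSurjective hf = Q.mapSurjective hf := by
      intro n hn Q
      apply Sylow.ext
      rw [Sylow.coe_mapSurjective, Sylow.coe_mapSurjective, Sylow.coe_subgroup_smul, map_conj_smul,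
        MonoidHom.mem_ker.1 hn, map_one, one_smul]
    have hHQ₀ : H ≤ (Q₀ : Subgroup G) := fun h hh => by
      have h' : (⟨h, hHX hh⟩ : X) ∈ (S : Subgroup X) := hS (by exact hh)
      rw [← hx] at h'
      exact h'
    obtain ⟨n₀, hn₀, q₀, hq₀, hnq⟩ := mem_sup_of_normal_left.1 (hXeq x x.2)
    have hQ₀eq : Q₀ = n₀ • Q₁ := by
      rw [hQ₀, ← hnq, mul_smul, Sylow.smul_eq_iff_mem_normalizer.2 (le_normalizer hq₀)]
    have hQ₀' : Q₀.mapSurjective hf = Q' := by rw [hQ₀eq, hmap n₀ hn₀, hQ₁]
    -- the fibre is the orbit of `Q₀` under `C`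
    have horb : {Q : Sylow p G | H ≤ (Q : Subgroup G) ∧ Q.mapSurjective hf = Q'} =
        MulAction.orbit C Q₀ := by
      ext Q
      constructor
      · rintro ⟨hHQ, hQ⟩
        have hQX : (Q : Subgroup G) ≤ X := fun y hy => by
          rw [hX, mem_comap, ← hQ, Sylow.coe_mapSurjective]; exact mem_map_of_mem f hy
        have hQ₀X : (Q₀ : Subgroup G) ≤ X := fun y hy => by
          rw [hX, mem_comap, ← hQ₀', Sylow.coe_mapSurjective]; exact mem_map_of_mem f hy
        obtain ⟨u, hu⟩ := MulAction.exists_smul_eq X (Q₀.subtype hQ₀X) (Q.subtype hQX)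
        rw [Sylow.smul_subtype] at hu
        have hu' : (u : G) • Q₀ = Q := Sylow.subtype_injective hu
        have huX : (u : G) ∈ N ⊔ (Q₀ : Subgroup G) := by
          have : X = N ⊔ (Q₀ : Subgroup G) := by
            rw [hX, ← hQ₀', Sylow.coe_mapSurjective, comap_map_eq, sup_comm]
          rw [← this]; exact u.2
        obtain ⟨n, hn, q, hq, hnq⟩ := mem_sup_of_normal_left.1 huX
        have hnQ : n • Q₀ = Q := by
          rw [← hu', ← hnq, mul_smul, Sylow.smul_eq_iff_mem_normalizer.2 (le_normalizer hq)]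
        refine ⟨⟨n, hn, mem_centralizer_iff.2 fun h hh => ?_⟩, hnQ⟩
        have h1 : n⁻¹ * h * n ∈ (Q₀ : Subgroup G) := by
          have := hHQ hh
          rw [← hnQ, Sylow.coe_subgroup_smul] at this
          exact mem_conj_smul.1 this
        have h2 : h⁻¹ * (n⁻¹ * h * n) ∈ (Q₀ : Subgroup G) ⊓ N :=
          ⟨Subgroup.mul_mem _ (Subgroup.inv_mem _ (hHQ₀ hh)) h1, by
            have h3 := N.mul_mem ((inferInstance : N.Normal).conj_mem _ (N.inv_mem hn) h⁻¹) hn
            simpa [mul_assoc] using h3⟩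
        rw [hQinf, mem_bot, inv_mul_eq_one] at h2
        calc h * n = n * (n⁻¹ * h * n) := by group
          _ = n * h := by rw [← h2]
      · rintro ⟨⟨c, hcN, hcH⟩, rfl⟩
        refine ⟨fun h hh => ?_, (hmap c hcN Q₀).trans hQ₀'⟩
        change h ∈ ((c • Q₀ : Sylow p G) : Subgroup G)
        rw [Sylow.coe_subgroup_smul, mem_conj_smul, mul_assoc, mem_centralizer_iff.1 hcH h hh,
          inv_mul_cancel_left]
        exact hHQ₀ hh
    have hstab : Nat.card (MulAction.stabilizer C Q₀) = D := by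
      rw [← hDQ Q₀]
      refine Nat.card_congr ⟨fun c => ⟨c.1.1, c.1.2.1, Sylow.smul_eq_iff_mem_normalizer.1 c.2⟩,
        fun u => ⟨⟨u.1, u.2.1, mem_centralizer_iff.2 fun h hh => ?_⟩,
          Sylow.smul_eq_iff_mem_normalizer.2 u.2.2⟩, fun _ => rfl, fun _ => rfl⟩
      have h1 : h⁻¹ * ((u : G)⁻¹ * h * u) ∈ (Q₀ : Subgroup G) ⊓ N :=
        ⟨Subgroup.mul_mem _ (Subgroup.inv_mem _ (hHQ₀ hh)) ((mem_normalizer_iff''.1 u.2.2 h).1 (hHQ₀ hh)), by
          have h3 := N.mul_mem ((inferInstance : N.Normal).conj_mem _ (N.inv_mem u.2.1) h⁻¹) u.2.1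
          simpa [mul_assoc] using h3⟩
      rw [hQinf, mem_bot, inv_mul_eq_one] at h1
      calc h * (u : G) = u * ((u : G)⁻¹ * h * u) := by group
        _ = u * h := by rw [← h1]
    have hcount : Nat.card {Q : Sylow p G // H ≤ (Q : Subgroup G) ∧ Q.mapSurjective hf = Q'} =
        (MulAction.stabilizer C Q₀).index := by
      rw [MulAction.index_stabilizer, ← horb, ← Nat.card_coe_set_eq]
      rfl
    simp only
    rw [hcount, ← hstab, index_mul_card]
  -- sum over the fibres
  have hsum : Nat.card {Q : Sylow p G // H ≤ (Q : Subgroup G)} * D =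
      Nat.card {Q' : Sylow p G' // H.map f ≤ (Q' : Subgroup G')} * Nat.card C := by
    let e : {Q : Sylow p G // H ≤ (Q : Subgroup G)} ≃
        (Σ Q' : {Q' : Sylow p G' // H.map f ≤ (Q' : Subgroup G')},
          {Q : Sylow p G // H ≤ (Q : Subgroup G) ∧ Q.mapSurjective hf = Q'.1}) :=
      { toFun := fun Q => ⟨⟨Q.1.mapSurjective hf, by
          rw [Sylow.coe_mapSurjective]; exact map_mono Q.2⟩, ⟨Q.1, Q.2, rfl⟩⟩
        invFun := fun x => ⟨x.2.1, x.2.2.1⟩
        left_inv := fun _ => rfl
        right_inv := fun x => by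
          obtain ⟨⟨Q', h'⟩, ⟨Q, hQ, hQe⟩⟩ := x
          change Q.mapSurjective hf = Q' at hQe
          subst hQe
          rfl }
    haveI := Fintype.ofFinite {Q' : Sylow p G' // H.map f ≤ (Q' : Subgroup G')}
    rw [Nat.card_congr e, Nat.card_sigma, Finset.sum_mul, Finset.sum_congr rfl fun Q' _ => hfib Q',
      Finset.sum_const, smul_eq_mul, Finset.card_univ, Nat.card_eq_fintype_card
        (α := {Q' : Sylow p G' // H.map f ≤ (Q' : Subgroup G')})]
  rw [card_normalizer_mapSurjective f hf hker P, ← hP', ← mul_assoc, hsum]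
  ring

/-- The factor contributed by one step of a series. -/
noncomputable def layerFactor (p : ℕ) (K L : Subgroup G) (H : Subgroup G) : ℕ :=
  if (K.relIndex L).Coprime p then
    Nat.card {u : G // u ∈ L ∧ ∀ h ∈ H, h * u * h⁻¹ * u⁻¹ ∈ K} / Nat.card K
  else K.relIndex L

theorem fin_prod_telescope {n : ℕ} (a : Fin (n + 1) → ℕ) (c : Fin n → ℕ)
    (h : ∀ i : Fin n, a i.castSucc = c i * a i.succ) :
    a 0 = (∏ i, c i) * a (Fin.last n) := by
  induction n with
  | zero => simp
  | succ n ih =>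
    have h0 := h 0
    have h1 := ih (fun i => a i.succ) (fun i => c i.succ) fun i => h i.succ
    rw [Fin.castSucc_zero] at h0
    rw [h0, h1, Fin.prod_univ_succ, Fin.succ_last, mul_assoc]

/-- The kernel of `G ⧸ K → G ⧸ L`. -/
theorem map_ker_data {K L : Subgroup G} [K.Normal] [L.Normal] (hKL : K ≤ L) :
    (QuotientGroup.map K L (MonoidHom.id G) hKL).ker = L.map (QuotientGroup.mk' K) ∧
      Function.Surjective (QuotientGroup.map K L (MonoidHom.id G) hKL) ∧
      (QuotientGroup.map K L (MonoidHom.id G) hKL).comp (QuotientGroup.mk' K) =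
        QuotientGroup.mk' L := by
  have hcomp : (QuotientGroup.map K L (MonoidHom.id G) hKL).comp (QuotientGroup.mk' K) =
      QuotientGroup.mk' L := MonoidHom.ext fun x => rfl
  refine ⟨?_, ?_, hcomp⟩
  · apply comap_injective (f := QuotientGroup.mk' K) (QuotientGroup.mk'_surjective K)
    rw [MonoidHom.comap_ker, hcomp, QuotientGroup.ker_mk', comap_map_mk', sup_eq_left.2 hKL]
  · refine Function.Surjective.of_comp (g := QuotientGroup.mk' K) ?_
    rw [← MonoidHom.coe_comp, hcomp]
    exact QuotientGroup.mk'_surjective L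

theorem card_map_relIndex {K L : Subgroup G} [K.Normal] (hKL : K ≤ L) :
    Nat.card (L.map (QuotientGroup.mk' K)) = K.relIndex L := by
  refine Nat.eq_of_mul_eq_mul_right (Nat.card_pos (α := K)) ?_
  rw [card_map_mk'_of_le L K hKL, mul_comm, card_mul_relIndex hKL]

theorem card_centralizer_layer {K L : Subgroup G} [K.Normal] (hKL : K ≤ L) (H : Subgroup G) :
    Nat.card {u : G // u ∈ L ∧ ∀ h ∈ H, h * u * h⁻¹ * u⁻¹ ∈ K} / Nat.card K =
      Nat.card ↥(L.map (QuotientGroup.mk' K) ⊓
        centralizer ((H.map (QuotientGroup.mk' K) : Subgroup (G ⧸ K)) : Set (G ⧸ K))) := by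
  set π := QuotientGroup.mk' K with hπ
  set Y := L.map π ⊓ centralizer ((H.map π : Subgroup (G ⧸ K)) : Set (G ⧸ K)) with hY
  have h1 : Nat.card {u : G // u ∈ L ∧ ∀ h ∈ H, h * u * h⁻¹ * u⁻¹ ∈ K} =
      Nat.card (Y.comap π) := by
    refine Nat.card_congr (Equiv.subtypeEquivRight fun u => ?_)
    rw [mem_comap, hY, mem_inf, ← mem_comap, hπ, comap_map_mk', sup_eq_left.2 hKL]
    refine and_congr Iff.rfl ⟨fun hu => mem_centralizer_iff.2 ?_, fun hu h hh => ?_⟩
    · rintro _ ⟨h, hh, rfl⟩
      have : π (h * u * h⁻¹ * u⁻¹) = 1 := (QuotientGroup.eq_one_iff _).2 (hu h hh)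
      rw [map_mul, map_mul, map_mul, map_inv, map_inv, mul_inv_eq_one,
        mul_inv_eq_iff_eq_mul] at this
      exact this
    · have := mem_centralizer_iff.1 hu _ (mem_map_of_mem π hh)
      rw [← QuotientGroup.eq_one_iff]
      change π (h * u * h⁻¹ * u⁻¹) = 1
      rw [map_mul, map_mul, map_mul, map_inv, map_inv, mul_inv_eq_one, mul_inv_eq_iff_eq_mul]
      exact this
  rw [h1, hπ, card_comap_mk', Nat.mul_div_cancel _ Nat.card_pos]

theorem normCount_layer {K L : Subgroup G} [K.Normal] [L.Normal] (hKL : K ≤ L)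
    (hfac : (∃ m : ℕ, K.relIndex L = p ^ m) ∨ (K.relIndex L).Coprime p) (H : Subgroup G)
    (hH : IsPGroup p H) :
    normCount p (H.map (QuotientGroup.mk' K)) =
      layerFactor p K L H * normCount p (H.map (QuotientGroup.mk' L)) := by
  obtain ⟨hker, hsurj, hcomp⟩ := map_ker_data hKL
  rw [← hcomp, ← Subgroup.map_map]
  unfold layerFactor
  split_ifs with hc
  · rw [card_centralizer_layer hKL]
    have hker' : (Nat.card (QuotientGroup.map K L (MonoidHom.id G) hKL).ker).Coprime p := by
      rwa [hker, card_map_relIndex hKL]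
    rw [normCount_of_coprime_ker _ hsurj hker' _ (hH.map _), hker]
  · obtain ⟨m, hm⟩ := hfac.resolve_right hc
    have hker' : IsPGroup p (QuotientGroup.map K L (MonoidHom.id G) hKL).ker := by
      rw [hker]; exact IsPGroup.of_card (n := m) (by rw [card_map_relIndex hKL, hm])
    rw [normCount_of_isPGroup_ker _ hsurj hker', hker, card_map_relIndex hKL]

/-- `normCount` along a `p`-series. -/
theorem normCount_series {n : ℕ} (M : Fin (n + 1) → Subgroup G) (h0 : M 0 = ⊥)
    (hn : M (Fin.last n) = ⊤) (hmono : Monotone M) (hnormal : ∀ i, (M i).Normal)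
    (hfac : ∀ i : Fin n, (∃ m : ℕ, (M i.castSucc).relIndex (M i.succ) = p ^ m) ∨
      ((M i.castSucc).relIndex (M i.succ)).Coprime p) (H : Subgroup G) (hH : IsPGroup p H) :
    normCount p H = ∏ i : Fin n, layerFactor p (M i.castSucc) (M i.succ) H := by
  haveI := hnormal
  have hc0 : Nat.card (M 0) = 1 := by rw [h0]; exact Subgroup.card_bot
  have hbot : normCount p H = normCount p (H.map (QuotientGroup.mk' (M 0))) := by
    rw [normCount_of_isPGroup_ker (QuotientGroup.mk' (M 0)) (QuotientGroup.mk'_surjective _)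
      (by rw [QuotientGroup.ker_mk']; exact IsPGroup.of_card (n := 0) (by rw [hc0, pow_zero])),
      QuotientGroup.ker_mk', hc0, one_mul]
  have htop : normCount p (H.map (QuotientGroup.mk' (M (Fin.last n)))) = 1 := by
    haveI : Subsingleton (G ⧸ M (Fin.last n)) := QuotientGroup.subsingleton_iff.2 hn
    rw [normCount, Nat.card_eq_one_iff_exists]
    refine ⟨⟨1, H.map _, hH.map _, le_rfl, one_mem _⟩, fun y => Subsingleton.elim _ _⟩
  rw [hbot, fin_prod_telescope (fun i => normCount p (H.map (QuotientGroup.mk' (M i))))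
    (fun i => layerFactor p (M i.castSucc) (M i.succ) H)
    (fun i => normCount_layer (hmono (Fin.castSucc_le_succ i)) (hfac i) H hH), htop, mul_one]

/-- The order of a Sylow subgroup along a `p`-series. -/
theorem card_sylow_series {n : ℕ} (M : Fin (n + 1) → Subgroup G) (h0 : M 0 = ⊥)
    (hn : M (Fin.last n) = ⊤) (hmono : Monotone M)
    (hfac : ∀ i : Fin n, (∃ m : ℕ, (M i.castSucc).relIndex (M i.succ) = p ^ m) ∨
      ((M i.castSucc).relIndex (M i.succ)).Coprime p) (P : Sylow p G) :
    Nat.card (P : Subgroup G) = ∏ i : Fin n,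
      (if ((M i.castSucc).relIndex (M i.succ)).Coprime p then 1
        else (M i.castSucc).relIndex (M i.succ)) := by
  have hp : p.Prime := Fact.out
  set r : Fin n → ℕ := fun i => (M i.castSucc).relIndex (M i.succ) with hr
  have hG : Nat.card G = ∏ i, r i := by
    have := fin_prod_telescope (fun i => (M i).index) r
      (fun i => (relIndex_mul_index (hmono (Fin.castSucc_le_succ i))).symm)
    rwa [h0, hn, index_bot, index_top, mul_one] at this
  obtain ⟨k, hk⟩ : ∃ k, (∏ i : Fin n, if (r i).Coprime p then 1 else r i) = p ^ k := by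
    refine Finset.prod_induction _ (fun x => ∃ k, x = p ^ k) ?_ ⟨0, rfl⟩ fun i _ => ?_
    · rintro a b ⟨k, rfl⟩ ⟨l, rfl⟩; exact ⟨k + l, (pow_add p k l).symm⟩
    · split_ifs with h
      · exact ⟨0, rfl⟩
      · exact (hfac i).resolve_right h
  have hsplit : Nat.card G = p ^ k * ∏ i : Fin n, (if (r i).Coprime p then r i else 1) := by
    rw [hG, ← hk, ← Finset.prod_mul_distrib]
    refine Finset.prod_congr rfl fun i _ => ?_
    split_ifs <;> simp
  have hco : ¬ p ∣ ∏ i : Fin n, (if (r i).Coprime p then r i else 1) := by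
    intro hd
    obtain ⟨i, -, hi⟩ := hp.prime.exists_mem_finset_dvd hd
    split_ifs at hi with h
    · exact hp.ne_one (Nat.eq_one_of_dvd_coprimes h hi dvd_rfl)
    · exact hp.not_dvd_one hi
  change _ = ∏ i : Fin n, (if (r i).Coprime p then 1 else r i)
  rw [hk, Sylow.card_eq_multiplicity, hsplit, Nat.factorization_mul (pow_ne_zero k hp.ne_zero)
    (fun h => hco (by rw [h]; exact dvd_zero p)), Finsupp.add_apply, hp.factorization_pow, Finsupp.single_eq_same,
    Nat.factorization_eq_zero_of_not_dvd hco, add_zero]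

end Cfsg.Agent.Solvable
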