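import Cfsg.Agent.Lib.Solvable.FixedProduct
import Cfsg.Agent.Lib.Solvable.SubnormalizerQuotient
import Cfsg.Agent.Lib.Coprime.Hom

/-!
For a `p`-group `P` acting on a finite group `N` of order prime to `p`:
`(∏ x, |C_N(x)|) ^ p ≤ |N| ^ |P| * |C_N(P)| ^ ((p - 1) |P|)`.
-/

set_option autoImplicit false

namespace Cfsg.Agent.Solvable

open Subgroup

universe u w

/-- The common fixed points of an operator group. -/
def fixAll {A : Type w} [Group A] {S : Type u} [Group S] (φ : A →* MulAut S) : Subgroup S where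
  carrier := {v | ∀ a, φ a v = v}
  one_mem' := fun a => map_one _
  mul_mem' {a b} ha hb := fun x => by rw [map_mul, ha x, hb x]
  inv_mem' {a} ha := fun x => by rw [map_inv, ha x]

theorem card_fixAll_zpowers {A : Type w} [Group A] {S : Type u} [Group S] (φ : A →* MulAut S)
    (x : A) : Nat.card (fixAll (φ.comp (zpowers x).subtype)) = Nat.card {v : S // φ x v = v} :=
  Nat.card_congr (Equiv.subtypeEquivRight fun v => by
    refine ⟨fun h => h ⟨x, mem_zpowers x⟩, fun h => ?_⟩
    rintro ⟨a, i, rfl⟩
    change φ (x ^ i) v = v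
    have hle : zpowers x ≤ (MulAction.stabilizer (MulAut S) v).comap φ := zpowers_le.2 h
    exact hle (zpow_mem (mem_zpowers x) i))

/-- Fixed points of a coprime action multiply along an invariant normal subgroup. -/
theorem card_fixAll_eq_mul {A : Type w} [Group A] [Finite A] {S : Type u} [Group S] [Finite S]
    (φ : A →* MulAut S) (Z : Subgroup S) [Z.Normal] (φZ : A →* MulAut Z) (φQ : A →* MulAut (S ⧸ Z))
    (hφZ : ∀ a z, ((φZ a z : Z) : S) = φ a z) (hφQ : ∀ a (v : S), φQ a v = ((φ a v : S) : S ⧸ Z))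
    (hcop : (Nat.card A).Coprime (Nat.card Z))
    (hsolv : Group.IsSolvable A ∨ Group.IsSolvable Z) :
    Nat.card (fixAll φ) = Nat.card (fixAll φZ) * Nat.card (fixAll φQ) := by
  set F := fixAll φ
  let f : F →* fixAll φQ := ((QuotientGroup.mk' Z).comp F.subtype).codRestrict _ fun v a => by
    change φQ a ((v : S) : S ⧸ Z) = ((v : S) : S ⧸ Z)
    rw [hφQ, v.2 a]
  have hf : Function.Surjective f := by
    rintro ⟨y, hy⟩
    obtain ⟨x, rfl⟩ := QuotientGroup.mk_surjective y
    obtain ⟨n, hn, hfix⟩ := Cfsg.Agent.Coprime.exists_fixed_in_coset_hom φ Z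
      (fun a z hz => by rw [← hφZ a ⟨z, hz⟩]; exact SetLike.coe_mem _) hcop hsolv x fun a => by
        rw [← QuotientGroup.eq, ← hφQ a x]
        exact (hy a).symm
    exact ⟨⟨x * n, hfix⟩, Subtype.ext (by
      change ((x * n : S) : S ⧸ Z) = (x : S ⧸ Z)
      rw [QuotientGroup.mk_mul, (QuotientGroup.eq_one_iff n).2 hn, mul_one])⟩
  have h := card_preimage f hf (fun _ => True)
  rw [Nat.card_congr (Equiv.subtypeUnivEquiv fun _ => trivial),
    Nat.card_congr (Equiv.subtypeUnivEquiv fun _ => trivial)] at h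
  rw [h]
  congr 1
  refine Nat.card_congr
    ⟨fun v => ⟨⟨v.1.1, (QuotientGroup.eq_one_iff _).1 (congrArg Subtype.val v.2)⟩, fun a => ?_⟩,
     fun z => ⟨⟨(z.1 : S), fun a => ?_⟩, Subtype.ext ((QuotientGroup.eq_one_iff _).2 z.1.2)⟩,
     fun _ => rfl, fun _ => rfl⟩
  · exact Subtype.ext ((hφZ a _).trans (v.1.2 a))
  · rw [← hφZ a z.1, z.2 a]

variable {p : ℕ} [Fact p.Prime]

theorem fixed_product_le_qGroup {P : Type w} [Group P] [Fintype P] {S : Type u} [Group S]
    [Finite S] {q : ℕ} [Fact q.Prime] (hqp : q ≠ p) (hP : IsPGroup p P) (hS : IsPGroup q S)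
    (φ : P →* MulAut S) :
    (∏ x : P, Nat.card {v : S // φ x v = v}) ^ p ≤
      Nat.card S ^ Nat.card P * Nat.card (fixAll φ) ^ ((p - 1) * Nat.card P) := by
  have hp : p.Prime := Fact.out
  have hq : q.Prime := Fact.out
  induction hk : Nat.card S using Nat.strong_induction_on generalizing S with
  | _ k ih =>
  subst hk
  have hcop : (Nat.card S).Coprime p := by
    obtain ⟨e, he⟩ := IsPGroup.iff_card.1 hS
    rw [he]
    exact Nat.Coprime.pow_left e ((Nat.coprime_primes hq hp).2 hqp)
  rcases subsingleton_or_nontrivial S with hs | hs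
  · have h1 : Nat.card S = 1 := Nat.card_eq_one_iff_unique.2 ⟨hs, ⟨1⟩⟩
    have h2 : ∀ x : P, Nat.card {v : S // φ x v = v} = 1 := fun x => by
      rw [Nat.card_congr (Equiv.subtypeUnivEquiv fun v => Subsingleton.elim (φ x v) v), h1]
    simp [h2, h1]
  set Z := center S with hZ
  by_cases htop : Z = ⊤
  · letI : CommGroup S :=
      { (inferInstance : Group S) with
        mul_comm := fun a b => ((mem_center_iff.1 (show a ∈ center S by rw [← hZ, htop]; exact mem_top a)) b).symm }
    exact fixed_product_le hP hcop φ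
  have hinv : ∀ (e : MulAut S) (z : S), z ∈ Z → e z ∈ Z := fun e z hz => by
    rw [hZ, mem_center_iff] at hz ⊢
    intro g
    have := congrArg e (hz (e⁻¹ g))
    simpa using this
  let φZ : P →* MulAut Z :=
    { toFun := fun x =>
        { toFun := fun v => ⟨φ x v, hinv _ v v.2⟩
          invFun := fun v => ⟨φ x⁻¹ v, hinv _ v v.2⟩
          left_inv := fun v => Subtype.ext (by simp)
          right_inv := fun v => Subtype.ext (by simp)
          map_mul' := fun a b => Subtype.ext (by simp) }
      map_one' := by ext v; simp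
      map_mul' := fun a b => by ext v; simp }
  let φQ : P →* MulAut (S ⧸ Z) :=
    { toFun := fun x =>
        { toFun := QuotientGroup.map Z Z (φ x).toMonoidHom fun z hz => hinv _ z hz
          invFun := QuotientGroup.map Z Z (φ x⁻¹).toMonoidHom fun z hz => hinv _ z hz
          left_inv := fun v => QuotientGroup.induction_on v fun s =>
            congrArg QuotientGroup.mk (by simp)
          right_inv := fun v => QuotientGroup.induction_on v fun s =>
            congrArg QuotientGroup.mk (by simp)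
          map_mul' := map_mul _ }
      map_one' := by
        refine MulEquiv.ext fun v => QuotientGroup.induction_on v fun s => ?_
        exact congrArg QuotientGroup.mk (by simp)
      map_mul' := fun a b => by
        refine MulEquiv.ext fun v => QuotientGroup.induction_on v fun s => ?_
        exact congrArg QuotientGroup.mk (by simp) }
  have hne : Nat.card Z < Nat.card S :=
    lt_of_le_of_ne (card_le_card_group Z) fun h => htop (eq_top_of_card_eq Z h)
  have hQlt : Nat.card (S ⧸ Z) < Nat.card S := by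
    haveI := hS.center_nontrivial
    rw [card_eq_card_quotient_mul_card_subgroup Z]
    exact lt_mul_of_one_lt_right Nat.card_pos (Finite.one_lt_card)
  have hsolv : Group.IsSolvable Z :=
    Group.isSolvable_of_comm fun a b => Subtype.ext ((mem_center_iff.1 a.2) b).symm
  have hmul : ∀ (A : Subgroup P),
      Nat.card (fixAll (φ.comp A.subtype)) =
        Nat.card (fixAll (φZ.comp A.subtype)) * Nat.card (fixAll (φQ.comp A.subtype)) := fun A => by
    refine card_fixAll_eq_mul (φ.comp A.subtype) Z (φZ.comp A.subtype) (φQ.comp A.subtype)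
      (fun a z => rfl) (fun a v => rfl) ?_ (Or.inr hsolv)
    obtain ⟨e, he⟩ := IsPGroup.iff_card.1 (hP.to_subgroup A)
    rw [he]
    exact ((hcop.coprime_dvd_left (card_subgroup_dvd_card Z)).pow_right e).symm
  have hall : Nat.card (fixAll φ) = Nat.card (fixAll φZ) * Nat.card (fixAll φQ) := by
    refine card_fixAll_eq_mul φ Z φZ φQ (fun a z => rfl) (fun a v => rfl) ?_ (Or.inr hsolv)
    obtain ⟨e, he⟩ := IsPGroup.iff_card.1 hP
    rw [he]
    exact ((hcop.coprime_dvd_left (card_subgroup_dvd_card Z)).pow_right e).symm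
  have hx : ∀ x : P, Nat.card {v : S // φ x v = v} =
      Nat.card {v : Z // φZ x v = v} * Nat.card {v : S ⧸ Z // φQ x v = v} := fun x => by
    rw [← card_fixAll_zpowers, hmul, card_fixAll_zpowers, card_fixAll_zpowers]
  have h1 := ih _ hne (hS.to_subgroup Z) φZ rfl
  have h2 := ih _ hQlt (hS.to_quotient Z) φQ rfl
  rw [Finset.prod_congr rfl fun x _ => hx x, Finset.prod_mul_distrib, mul_pow, hall, mul_pow,
    card_eq_card_quotient_mul_card_subgroup Z, mul_pow]
  refine (Nat.mul_le_mul h1 h2).trans (le_of_eq ?_)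
  ring

variable {G : Type u} [Group G] [Finite G]

/-- Invariant Sylow subgroups meet centralisers in Sylow subgroups. -/
theorem card_inf_centralizer_sylow {q : ℕ} [Fact q.Prime] (A A' N : Subgroup G) [N.Normal]
    (hA' : A' ≤ A) (hcop : (Nat.card A).Coprime (Nat.card N)) (hsolv : Group.IsSolvable A)
    (S : Sylow q N) (hS : A ≤ normalizer ((S : Subgroup N).map N.subtype : Set G)) :
    Nat.card ↥((S : Subgroup N).map N.subtype ⊓ centralizer (A' : Set G)) =
      q ^ (Nat.card ↥(N ⊓ centralizer (A' : Set G))).factorization q := by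
  set C := N ⊓ centralizer (A' : Set G) with hC
  set S' := (S : Subgroup N).map N.subtype with hS'
  have hS'N : S' ≤ N := map_subtype_le _
  have hle : S' ⊓ centralizer (A' : Set G) ≤ C := inf_le_inf_right _ hS'N
  obtain ⟨e, he⟩ := IsPGroup.iff_card.1 ((S.isPGroup'.map N.subtype).to_le
    (inf_le_left : S' ⊓ centralizer (A' : Set G) ≤ S'))
  have hq : q.Prime := Fact.out
  refine le_antisymm (Nat.le_of_dvd (pow_pos hq.pos _) ?_) ?_
  · rw [he]
    refine Nat.pow_dvd_pow q ((hq.pow_dvd_iff_le_factorization Nat.card_pos.ne').1 ?_)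
    rw [← he]; exact card_dvd_of_le hle
  · obtain ⟨T⟩ : Nonempty (Sylow q C) := inferInstance
    set T' := (T : Subgroup C).map C.subtype with hT'
    have hT'C : T' ≤ C := map_subtype_le _
    have hA'T : A' ≤ normalizer (T' : Set G) := fun a ha => by
      refine centralizer_le_normalizer _ (mem_centralizer_iff.2 fun t ht => ?_)
      exact (mem_centralizer_iff.1 (hT'C ht).2 a ha).symm
    have hN : A' ≤ normalizer (N : Set G) := by rw [normalizer_eq_top]; exact le_top
    have hcop' := hcop.coprime_dvd_left (card_dvd_of_le hA')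
    have hsolv' := Cfsg.Agent.Coprime.solvable_of_le hA' hsolv
    obtain ⟨R, hTR, hR⟩ := Cfsg.Agent.Coprime.exists_invariant_sylow_ge A' N hN hcop'
      (Or.inl hsolv') q T' (hT'C.trans inf_le_left) (T.isPGroup'.map _) hA'T
    obtain ⟨c, hc, hcS⟩ := Cfsg.Agent.Coprime.exists_invariant_sylow_conj A' N hN hcop'
      (Or.inl hsolv') q S R (hA'.trans hS) hR
    rw [← Sylow.card_eq_multiplicity T, ← card_map_of_injective C.subtype_injective, ← hT']
    have hinj : Function.Injective (fun t : T' => (⟨(c : G)⁻¹ * t * c, by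
        refine ⟨?_, ?_⟩
        · obtain ⟨y, hy, hyt⟩ := hTR t.2
          rw [← hcS, Sylow.coe_subgroup_smul] at hy
          refine ⟨c⁻¹ * y * c, mem_conj_smul.1 hy, ?_⟩
          rw [← hyt]; rfl
        · exact Subgroup.mul_mem _ (Subgroup.mul_mem _ (Subgroup.inv_mem _ hc) (hT'C t.2).2) hc⟩ :
        ↥(S' ⊓ centralizer (A' : Set G)))) := fun a b h => Subtype.ext (by
      simpa using congrArg Subtype.val h)
    exact Nat.card_le_card_of_injective _ hinj

/-- The inequality for a `p`-group acting through `ι` on a normal `p'`-subgroup. -/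
theorem centralizer_product_le {P : Type w} [Group P] [Fintype P] (hP : IsPGroup p P)
    (ι : P →* G) (N : Subgroup G) [N.Normal] (hN : (Nat.card N).Coprime p) :
    (∏ x : P, Nat.card ↥(N ⊓ centralizer ({ι x} : Set G))) ^ p ≤
      Nat.card N ^ Nat.card P *
        Nat.card ↥(N ⊓ centralizer (ι.range : Set G)) ^ ((p - 1) * Nat.card P) := by
  have hp : p.Prime := Fact.out
  set c : P → ℕ := fun x => Nat.card ↥(N ⊓ centralizer ({ι x} : Set G)) with hc
  set cP := Nat.card ↥(N ⊓ centralizer (ι.range : Set G)) with hcP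
  have hcpos : ∀ x, c x ≠ 0 := fun x => Nat.card_pos.ne'
  have h0 : (∏ x : P, c x) ^ p ≠ 0 := pow_ne_zero _ (Finset.prod_ne_zero_iff.2 fun x _ => hcpos x)
  have h1 : Nat.card N ^ Nat.card P * cP ^ ((p - 1) * Nat.card P) ≠ 0 :=
    mul_ne_zero (pow_ne_zero _ Nat.card_pos.ne') (pow_ne_zero _ Nat.card_pos.ne')
  refine Nat.le_of_dvd (Nat.pos_of_ne_zero h1) ((Nat.factorization_le_iff_dvd h0 h1).1 fun q => ?_)
  rw [Nat.factorization_pow, Nat.factorization_prod fun x _ => hcpos x,
    Nat.factorization_mul (pow_ne_zero _ Nat.card_pos.ne') (pow_ne_zero _ Nat.card_pos.ne'),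
    Nat.factorization_pow, Nat.factorization_pow]
  simp only [Finsupp.smul_apply, Finsupp.coe_finsetSum, Finset.sum_apply, Finsupp.add_apply,
    smul_eq_mul]
  by_cases hq : q.Prime
  swap
  · simp [Nat.factorization_eq_zero_of_not_prime _ hq]
  by_cases hqp : q = p
  · subst hqp
    have hz : ∀ K : Subgroup G, (Nat.card ↥(N ⊓ K)).factorization q = 0 := fun K =>
      Nat.factorization_eq_zero_of_not_dvd fun h => hq.not_dvd_one
        (hN ▸ Nat.dvd_gcd (h.trans (card_dvd_of_le inf_le_left)) dvd_rfl)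
    rw [Finset.sum_eq_zero fun x _ => hz _, mul_zero]
    exact Nat.zero_le _
  haveI := Fact.mk hq
  set A := ι.range with hA
  have hAp : IsPGroup p A := hP.of_surjective _ ι.rangeRestrict_surjective
  haveI := hAp.isNilpotent
  have hAsolv : Group.IsSolvable A := Cfsg.Agent.Coprime.isSolvable_of_isNilpotent' inferInstance
  have hcop : (Nat.card A).Coprime (Nat.card N) := by
    obtain ⟨e, he⟩ := IsPGroup.iff_card.1 hAp
    rw [he]; exact hN.symm.pow_left e
  obtain ⟨S, hS⟩ := Cfsg.Agent.Coprime.exists_invariant_sylow A N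
    (by rw [normalizer_eq_top]; exact le_top) hcop (Or.inl hAsolv) q
  set S' := (S : Subgroup N).map N.subtype with hS'
  let ι' : P →* normalizer (S' : Set G) := ι.codRestrict _ fun x => hS ⟨x, rfl⟩
  let φ : P →* MulAut S' := (S'.normalizerMonoidHom).comp ι'
  have hφ : ∀ x v, ((φ x v : S') : G) = ι x * v * (ι x)⁻¹ := fun x v => rfl
  have hfix : ∀ x, Nat.card {v : S' // φ x v = v} = q ^ (c x).factorization q := fun x => by
    rw [hc]
    simp only
    rw [← centralizer_closure, ← zpowers_eq_closure]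
    rw [← card_inf_centralizer_sylow A (zpowers (ι x)) N (zpowers_le.2 ⟨x, rfl⟩) hcop hAsolv S hS]
    refine Nat.card_congr ((Equiv.subtypeSubtypeEquivSubtypeExists _ _).trans
      (Equiv.subtypeEquivRight fun v => ?_))
    rw [zpowers_eq_closure, centralizer_closure, mem_inf, mem_centralizer_singleton_iff]
    constructor
    · rintro ⟨hv, h⟩
      have h' := congrArg Subtype.val h
      rw [hφ, mul_inv_eq_iff_eq_mul] at h'
      exact ⟨hv, h'.symm⟩
    · rintro ⟨hv, h⟩
      refine ⟨hv, Subtype.ext ?_⟩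
      rw [hφ, mul_inv_eq_iff_eq_mul]
      exact h.symm
  have hfixP : Nat.card (fixAll φ) = q ^ cP.factorization q := by
    rw [hcP, ← card_inf_centralizer_sylow A A N le_rfl hcop hAsolv S hS]
    exact Nat.card_congr ⟨fun v => ⟨v.1.1, v.1.2, mem_centralizer_iff.2 (by
        rintro _ ⟨x, rfl⟩
        have h' := congrArg Subtype.val (v.2 x)
        rwa [hφ, mul_inv_eq_iff_eq_mul] at h')⟩,
      fun v => ⟨⟨v.1, v.2.1⟩, fun x => Subtype.ext (by
        rw [hφ, mul_inv_eq_iff_eq_mul]
        exact mem_centralizer_iff.1 v.2.2 _ ⟨x, rfl⟩)⟩, fun _ => rfl, fun _ => rfl⟩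
  have hcardS : Nat.card S' = q ^ (Nat.card N).factorization q := by
    rw [hS', card_map_of_injective N.subtype_injective, Sylow.card_eq_multiplicity]
  have h := fixed_product_le_qGroup hqp hP (S.isPGroup'.map N.subtype) φ
  rw [Finset.prod_congr rfl fun x _ => hfix x, hfixP, hcardS, Finset.prod_pow_eq_pow_sum,
    ← pow_mul, ← pow_mul, ← pow_mul, ← pow_add, Nat.pow_le_pow_iff_right hq.one_lt] at h
  simpa only [mul_comm] using h

end Cfsg.Agent.Solvable
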