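import Mathlib.GroupTheory.SpecificGroups.Cyclic
import Mathlib.GroupTheory.QuotientGroup.Basic
import Mathlib.GroupTheory.Index
import Mathlib.Algebra.Group.Conj
import Mathlib.Data.Nat.Totient

/-!
Frobenius' theorem on the number of solutions of `x ^ n = 1` in a finite group.
-/

set_option autoImplicit false

namespace Cfsg.Agent.Solvable

open Subgroup

variable {G : Type*} [Group G] [Finite G]

theorem pow_eq_one_iff_pow_gcd (n : ℕ) (x : G) :
    x ^ n = 1 ↔ x ^ Nat.gcd n (Nat.card G) = 1 := by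
  rw [← orderOf_dvd_iff_pow_eq_one, ← orderOf_dvd_iff_pow_eq_one, Nat.dvd_gcd_iff]
  exact ⟨fun h => ⟨h, orderOf_dvd_natCard x⟩, fun h => h.1⟩

theorem card_pow_eq_one_gcd (n : ℕ) :
    Nat.card {x : G // x ^ n = 1} = Nat.card {x : G // x ^ Nat.gcd n (Nat.card G) = 1} :=
  Nat.card_congr (Equiv.subtypeEquivRight fun x => pow_eq_one_iff_pow_gcd n x)

/-- A set of elements which is a union of generator sets of cyclic subgroups of order divisible
by `e` has cardinality divisible by `φ e`. -/
theorem totient_dvd_card {e : ℕ} (P : ℕ → Prop) (hP : ∀ d, P d → e ∣ d) :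
    Nat.totient e ∣ Nat.card {x : G // P (orderOf x)} := by
  classical
  haveI := Fintype.ofFinite G
  haveI : Finite (Subgroup G) := Finite.of_injective _ SetLike.coe_injective
  haveI := Fintype.ofFinite (Subgroup G)
  rw [Nat.card_eq_fintype_card, Fintype.card_subtype,
    Finset.card_eq_sum_card_fiberwise (f := fun x : G => zpowers x) (t := Finset.univ)
      (fun x _ => Finset.mem_univ _)]
  refine Finset.dvd_sum fun Z _ => ?_
  rcases Finset.eq_empty_or_nonempty
    ((Finset.univ.filter fun x : G => P (orderOf x)).filter fun x => zpowers x = Z) with h | h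
  · rw [h, Finset.card_empty]; exact dvd_zero _
  obtain ⟨g, hg⟩ := h
  simp only [Finset.mem_filter, Finset.mem_univ, true_and] at hg
  obtain ⟨hgP, rfl⟩ := hg
  refine (Nat.totient_dvd_of_dvd (hP _ hgP)).trans (dvd_of_eq ?_)
  haveI : IsCyclic (zpowers g) := inferInstance
  haveI : Fintype (zpowers g) := Fintype.ofFinite _
  have hc : Fintype.card (zpowers g) = orderOf g := by
    rw [← Nat.card_eq_fintype_card, Nat.card_zpowers]
  rw [← IsCyclic.card_orderOf_eq_totient (α := zpowers g) (d := orderOf g) hc.symm.dvd]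
  refine Finset.card_bij (fun x _ => (x : G)) ?_ (fun x _ y _ h => Subtype.ext h) ?_
  · intro x hx
    simp only [Finset.mem_filter, Finset.mem_univ, true_and] at hx ⊢
    have ho : orderOf (x : G) = orderOf g := by rw [orderOf_coe]; exact hx
    refine ⟨ho ▸ hgP, eq_of_le_of_card_ge' (zpowers_le.2 x.2) ?_⟩
    rw [Nat.card_zpowers, Nat.card_zpowers, ho]
  · intro y hy
    simp only [Finset.mem_filter, Finset.mem_univ, true_and] at hy
    refine ⟨⟨y, hy.2 ▸ mem_zpowers y⟩, ?_, rfl⟩
    simp only [Finset.mem_filter, Finset.mem_univ, true_and]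
    rw [← orderOf_coe, ← Nat.card_zpowers, hy.2, Nat.card_zpowers]
where
  eq_of_le_of_card_ge' {A B : Subgroup G} (h : A ≤ B) (hc : Nat.card B ≤ Nat.card A) : A = B :=
    SetLike.coe_injective (Set.eq_of_subset_of_ncard_le h
      (by rw [← Nat.card_coe_set_eq, ← Nat.card_coe_set_eq]; exact hc) (Set.toFinite _))

theorem exists_crt {a b : ℕ} (h : a.Coprime b) :
    ∃ c : ℕ, c ≡ 1 [MOD a] ∧ c ≡ 0 [MOD b] :=
  ⟨Nat.chineseRemainder h 1 0, (Nat.chineseRemainder h 1 0).2.1, (Nat.chineseRemainder h 1 0).2.2⟩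

theorem pow_of_crt_one {x : G} {c a : ℕ} (hx : x ^ a = 1) (hc : c ≡ 1 [MOD a]) : x ^ c = x := by
  rw [pow_eq_pow_of_modEq hc hx, pow_one]

theorem pow_of_crt_zero {x : G} {c a : ℕ} (hx : x ^ a = 1) (hc : c ≡ 0 [MOD a]) : x ^ c = 1 := by
  rw [pow_eq_pow_of_modEq hc hx, pow_zero]

theorem pow_of_order {x : G} {e : ℕ} (h : orderOf x = e) : x ^ e = 1 := by
  rw [← h, pow_orderOf_eq_one]

/-- `v ↦ v mod ⟨u⟩` is a bijection on solutions of `x ^ m = 1`, for `m` prime to the order of
the central element `u`. -/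
theorem card_centralizer_solutions {u : G} {m : ℕ} (hm : m.Coprime (orderOf u))
    (C : Subgroup G) (hC : C = centralizer {u}) (Z : Subgroup C) [Z.Normal]
    (hZ : Z = (zpowers u).subgroupOf C) :
    Nat.card {v : C // v ^ m = 1} = Nat.card {w : C ⧸ Z // w ^ m = 1} := by
  have hzo : ∀ z ∈ Z, z ^ orderOf u = 1 := fun z hz => by
    apply Subtype.ext
    rw [hZ, mem_subgroupOf] at hz
    obtain ⟨i, hi⟩ := hz
    simp only at hi
    rw [SubgroupClass.coe_pow, OneMemClass.coe_one, ← hi, ← zpow_natCast, ← zpow_mul, mul_comm,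
      zpow_mul, zpow_natCast, pow_orderOf_eq_one, one_zpow]
  have hzc : ∀ z ∈ Z, ∀ v : C, Commute v z := fun z hz v => by
    apply Subtype.ext
    rw [hZ, mem_subgroupOf] at hz
    obtain ⟨i, hi⟩ := hz
    simp only at hi
    have hv : (v : G) ∈ centralizer {u} := hC ▸ v.2
    rw [Subgroup.coe_mul, Subgroup.coe_mul, ← hi]
    exact (Commute.zpow_right (mem_centralizer_singleton_iff.1 hv) i).eq
  obtain ⟨c, hc1, hc0⟩ := exists_crt hm
  refine Nat.card_eq_of_bijective
    (fun v => ⟨(v.1 : C ⧸ Z), by rw [← QuotientGroup.mk_pow, v.2, QuotientGroup.mk_one]⟩)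
    ⟨fun v w h => ?_, fun w => ?_⟩
  · have hz : (v.1)⁻¹ * w.1 ∈ Z := QuotientGroup.eq.1 (congrArg Subtype.val h)
    apply Subtype.ext
    have hzm : ((v.1)⁻¹ * w.1) ^ m = 1 := by
      have hcom : Commute (v.1)⁻¹ w.1 := by
        have := hzc _ hz (v.1)
        have h2 : Commute v.1 w.1 := by
          have h3 := (Commute.refl v.1).mul_right this
          rwa [mul_inv_cancel_left] at h3
        exact h2.inv_left
      rw [hcom.mul_pow, inv_pow, v.2, w.2, inv_one, one_mul]
    have h1 : (v.1)⁻¹ * w.1 = 1 := orderOf_eq_one_iff.1 (Nat.eq_one_of_dvd_coprimes hm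
      (orderOf_dvd_of_pow_eq_one hzm) (orderOf_dvd_of_pow_eq_one (hzo _ hz)))
    exact inv_mul_eq_one.1 h1
  · obtain ⟨x, hx⟩ := QuotientGroup.mk_surjective w.1
    have hxm : x ^ m ∈ Z := by
      rw [← QuotientGroup.eq_one_iff, QuotientGroup.mk_pow, hx, w.2]
    refine ⟨⟨x ^ c, ?_⟩, Subtype.ext ?_⟩
    · rw [← pow_mul, mul_comm, pow_mul]
      exact pow_of_crt_zero (hzo _ hxm) hc0
    · change ((x ^ c : C) : C ⧸ Z) = w.1
      rw [QuotientGroup.mk_pow, hx]
      exact pow_of_crt_one w.2 hc1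

/-- The conjugacy class of `u` has index `|G : C(u)|` many elements. -/
theorem card_conj_class (u : G) :
    Nat.card {x : G // IsConj u x} = (centralizer {u}).index := by
  refine (Nat.card_eq_of_bijective
    (Quotient.lift (fun g : G => (⟨g * u * g⁻¹, isConj_iff.2 ⟨g, rfl⟩⟩ : {x : G // IsConj u x})) ?_)
    ⟨?_, ?_⟩).symm
  · intro a b hab
    have h := mem_centralizer_singleton_iff.1 (QuotientGroup.leftRel_apply.1 hab)
    apply Subtype.ext
    calc a * u * a⁻¹ = a * (u * (a⁻¹ * b)) * b⁻¹ := by group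
      _ = a * (a⁻¹ * b * u) * b⁻¹ := by rw [h]
      _ = b * u * b⁻¹ := by group
  · rintro ⟨a⟩ ⟨b⟩ hab
    refine Quotient.sound (QuotientGroup.leftRel_apply.2 (mem_centralizer_singleton_iff.2 ?_))
    have h : a * u * a⁻¹ = b * u * b⁻¹ := congrArg Subtype.val hab
    calc a⁻¹ * b * u = a⁻¹ * (b * u * b⁻¹) * b := by group
      _ = a⁻¹ * (a * u * a⁻¹) * b := by rw [h]
      _ = u * (a⁻¹ * b) := by group
  · rintro ⟨x, hx⟩
    obtain ⟨g, rfl⟩ := isConj_iff.1 hx
    exact ⟨Quotient.mk'' g, rfl⟩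

/-- Frobenius' theorem for divisors of the group order. -/
theorem frobenius_dvd_card {n : ℕ} (hn : n ∣ Nat.card G) :
    n ∣ Nat.card {x : G // x ^ n = 1} := by
  classical
  induction hN : Nat.card G using Nat.strong_induction_on generalizing G n with
  | _ N ih =>
  subst hN
  induction hd : Nat.card G - n using Nat.strong_induction_on generalizing n with
  | _ d ih2 =>
  subst hd
  have hGpos : 0 < Nat.card G := Nat.card_pos
  rcases eq_or_ne n (Nat.card G) with rfl | hne
  · rw [Nat.card_congr (Equiv.subtypeUnivEquiv fun x : G => pow_card_eq_one')]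
  obtain ⟨r, hr⟩ := hn
  have hnpos : 0 < n := Nat.pos_of_ne_zero (by rintro rfl; simp at hr; omega)
  have hr1 : r ≠ 1 := by rintro rfl; rw [mul_one] at hr; exact hne hr.symm
  obtain ⟨p, hp, hpr⟩ := Nat.exists_prime_and_dvd hr1
  have hnp : n * p ∣ Nat.card G := hr ▸ mul_dvd_mul_left n hpr
  have hlt : n < n * p := lt_mul_of_one_lt_right hnpos hp.one_lt
  have hle := Nat.le_of_dvd hGpos hnp
  have h1 := ih2 _ (by omega) hnp rfl
  -- split off the solutions of `x ^ (n * p) = 1` which do not solve `x ^ n = 1`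
  have hsplit : Nat.card {x : G // x ^ (n * p) = 1} = Nat.card {x : G // x ^ n = 1} +
      Nat.card {x : G // x ^ (n * p) = 1 ∧ x ^ n ≠ 1} := by
    rw [← Nat.card_sum]
    refine Nat.card_congr (((Equiv.sumCompl fun x : {x : G // x ^ (n * p) = 1} =>
      (x : G) ^ n = 1).symm).trans (Equiv.sumCongr ?_ ?_))
    · exact (Equiv.subtypeSubtypeEquivSubtypeInter _ (fun x : G => x ^ n = 1)).trans
        (Equiv.subtypeEquivRight fun x => ⟨And.right, fun h => ⟨by rw [pow_mul, h, one_pow], h⟩⟩)
    · exact Equiv.subtypeSubtypeEquivSubtypeInter _ (fun x : G => x ^ n ≠ 1)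
  suffices hD : n ∣ Nat.card {x : G // x ^ (n * p) = 1 ∧ x ^ n ≠ 1} by
    have h2 : n ∣ Nat.card {x : G // x ^ (n * p) = 1} := (dvd_mul_right n p).trans h1
    rw [hsplit] at h2
    exact (Nat.dvd_add_left hD).1 h2
  obtain ⟨j, m, hm, hnm⟩ := Nat.exists_eq_pow_mul_and_not_dvd hnpos.ne' p hp.ne_one
  set e := p ^ (j + 1) with he
  have hnp' : n * p = e * m := by rw [hnm, he, pow_succ]; ring
  have hcop : e.Coprime m := Nat.Coprime.pow_left _ ((Nat.Prime.coprime_iff_not_dvd hp).2 hm)
  obtain ⟨a, ha1, ha0⟩ := exists_crt hcop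
  obtain ⟨b, hb1, hb0⟩ := exists_crt hcop.symm
  have hab : a + b ≡ 1 [MOD e * m] := by
    rw [← Nat.modEq_and_modEq_iff_modEq_mul hcop]
    exact ⟨by simpa using ha1.add hb0, by simpa using ha0.add hb1⟩
  haveI := Fact.mk hp
  have horder : ∀ x : G, x ^ (n * p) = 1 → x ^ n ≠ 1 → orderOf (x ^ a) = e := by
    intro x hx hxn
    refine orderOf_eq_prime_pow (fun h => hxn ?_) ?_
    · have h' : (x ^ (a * p ^ j)) ^ m = 1 := by rw [pow_mul, h, one_pow]
      rw [← pow_mul] at h'
      rw [← h']
      refine pow_eq_pow_of_modEq ?_ hx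
      rw [hnp', he, pow_succ]
      have h3 : a * p ^ j * m = p ^ j * m * a := by ring
      rw [h3, hnm, show p ^ j * p * m = p ^ j * m * p by ring]
      conv_lhs => rw [← mul_one (p ^ j * m)]
      exact (Nat.ModEq.mul_left' _ (ha1.of_dvd (dvd_pow_self p (Nat.succ_ne_zero j))).symm)
    · rw [← pow_mul, ← he]
      obtain ⟨t, ht⟩ := Nat.modEq_zero_iff_dvd.1 ha0
      rw [ht, show m * t * e = e * m * t by ring, pow_mul, ← hnp', hx, one_pow]
  have hno : ∀ x : G, x ^ (n * p) = 1 → (x ^ n ≠ 1 ↔ e ∣ orderOf x) := by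
    intro x hx
    constructor
    · intro hxn
      rw [← horder x hx hxn]
      exact orderOf_pow_dvd a
    · intro hdvd hxn
      have := hdvd.trans (orderOf_dvd_of_pow_eq_one hxn)
      rw [hnm, he, pow_succ] at this
      exact hm ((Nat.mul_dvd_mul_iff_left (pow_pos hp.pos j)).1 this)
  -- divisibility by the power of `p`
  have hA : p ^ j ∣ Nat.card {x : G // x ^ (n * p) = 1 ∧ x ^ n ≠ 1} := by
    have hc : Nat.card {x : G // x ^ (n * p) = 1 ∧ x ^ n ≠ 1} =
        Nat.card {x : G // orderOf x ∣ n * p ∧ e ∣ orderOf x} :=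
      Nat.card_congr (Equiv.subtypeEquivRight fun x =>
        ⟨fun h => ⟨orderOf_dvd_of_pow_eq_one h.1, (hno x h.1).1 h.2⟩,
          fun h => ⟨orderOf_dvd_iff_pow_eq_one.1 h.1,
            (hno x (orderOf_dvd_iff_pow_eq_one.1 h.1)).2 h.2⟩⟩)
    rw [hc]
    refine Dvd.dvd.trans ?_ (totient_dvd_card (G := G) (e := e)
      (fun d => d ∣ n * p ∧ e ∣ d) fun d h => h.2)
    rw [he, Nat.totient_prime_pow hp (Nat.succ_pos j), Nat.succ_sub_one]
    exact dvd_mul_right _ _
  -- divisibility by the part prime to `p`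
  have hB : m ∣ Nat.card {x : G // x ^ (n * p) = 1 ∧ x ^ n ≠ 1} := by
    have hbij : Nat.card {x : G // x ^ (n * p) = 1 ∧ x ^ n ≠ 1} =
        Nat.card (Σ u : {u : G // orderOf u = e}, {v : centralizer {(u : G)} // v ^ m = 1}) := by
      symm
      refine Nat.card_eq_of_bijective (fun q => ⟨(q.1 : G) * (q.2.1 : G), ?_⟩) ⟨?_, ?_⟩
      · have hcom : Commute (q.1 : G) (q.2.1 : G) :=
          (mem_centralizer_singleton_iff.1 q.2.1.2).symm
        have hu : (q.1 : G) ^ e = 1 := pow_of_order q.1.2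
        have hv : (q.2.1 : G) ^ m = 1 := congrArg Subtype.val q.2.2
        refine ⟨?_, fun h => ?_⟩
        · rw [hnp', hcom.mul_pow, pow_mul, hu, one_pow, one_mul, mul_comm, pow_mul, hv, one_pow]
        · rw [hcom.mul_pow, show n = m * p ^ j by rw [hnm, mul_comm], pow_mul (q.2.1 : G), hv,
            one_pow, mul_one] at h
          have := orderOf_dvd_of_pow_eq_one h
          rw [q.1.2, he, pow_succ, mul_comm m] at this
          exact hm ((Nat.mul_dvd_mul_iff_left (pow_pos hp.pos j)).1 this)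
      · have key : ∀ q : (Σ u : {u : G // orderOf u = e}, {v : centralizer {(u : G)} // v ^ m = 1}),
            ((q.1 : G) * (q.2.1 : G)) ^ a = q.1 := fun q => by
          have hcom : Commute (q.1 : G) (q.2.1 : G) :=
            (mem_centralizer_singleton_iff.1 q.2.1.2).symm
          rw [hcom.mul_pow, pow_of_crt_one (pow_of_order q.1.2) ha1,
            pow_of_crt_zero (show (q.2.1 : G) ^ m = 1 from congrArg Subtype.val q.2.2) ha0,
            mul_one]
        intro q q' h
        have h' : (q.1 : G) * (q.2.1 : G) = (q'.1 : G) * (q'.2.1 : G) := congrArg Subtype.val h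
        have h1 : (q.1 : G) = q'.1 := by rw [← key q, ← key q', h']
        have h2 : (q.2.1 : G) = q'.2.1 := mul_left_cancel (h'.trans (congrArg (· * (q'.2.1 : G)) h1.symm))
        obtain ⟨⟨u, hu⟩, ⟨⟨v, hv⟩, hvm⟩⟩ := q
        obtain ⟨⟨u', hu'⟩, ⟨⟨v', hv'⟩, hvm'⟩⟩ := q'
        simp only at h1 h2
        subst h1 h2
        rfl
      · rintro ⟨x, hx, hxn⟩
        refine ⟨⟨⟨x ^ a, horder x hx hxn⟩, ⟨⟨x ^ b, mem_centralizer_singleton_iff.2
          (Commute.pow_pow_self x b a).eq⟩, Subtype.ext ?_⟩⟩, Subtype.ext ?_⟩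
        · obtain ⟨t, ht⟩ := Nat.modEq_zero_iff_dvd.1 hb0
          rw [SubgroupClass.coe_pow, OneMemClass.coe_one, ← pow_mul, ht,
            show e * t * m = e * m * t by ring, pow_mul, ← hnp', hx, one_pow]
        · change x ^ a * x ^ b = x
          rw [← pow_add]
          exact pow_of_crt_one (hnp' ▸ hx) hab
    rw [hbij]
    haveI := Fintype.ofFinite G
    haveI : Finite (ConjClasses G) := Finite.of_surjective _ ConjClasses.mk_surjective
    haveI := Fintype.ofFinite (ConjClasses G)
    rw [Nat.card_sigma]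
    rw [← Finset.sum_fiberwise Finset.univ (fun u : {u : G // orderOf u = e} => ConjClasses.mk (u : G))]
    refine Finset.dvd_sum fun K _ => ?_
    rcases Finset.eq_empty_or_nonempty
      (Finset.univ.filter fun u : {u : G // orderOf u = e} => ConjClasses.mk (u : G) = K) with h | h
    · rw [h, Finset.sum_empty]; exact dvd_zero _
    obtain ⟨⟨u, hu⟩, hu'⟩ := h
    simp only [Finset.mem_filter, Finset.mem_univ, true_and] at hu'
    subst hu'
    rw [Finset.sum_congr rfl (g := fun _ => Nat.card {v : centralizer {u} // v ^ m = 1}) ?_,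
      Finset.sum_const, smul_eq_mul]
    · have hcard : (Finset.univ.filter fun u' : {u : G // orderOf u = e} =>
          ConjClasses.mk (u' : G) = ConjClasses.mk u).card = (centralizer {u}).index := by
        rw [← card_conj_class u, Nat.card_eq_fintype_card, Fintype.card_subtype]
        refine Finset.card_bij (fun x _ => (x : G)) ?_ (fun x _ y _ h => Subtype.ext h) ?_
        · intro x hx
          simp only [Finset.mem_filter, Finset.mem_univ, true_and] at hx ⊢
          exact (ConjClasses.mk_eq_mk_iff_isConj.1 hx).symm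
        · intro y hy
          simp only [Finset.mem_filter, Finset.mem_univ, true_and] at hy
          obtain ⟨g, rfl⟩ := isConj_iff.1 hy
          refine ⟨⟨g * u * g⁻¹, ?_⟩, ?_, rfl⟩
          · rw [← hu]
            exact orderOf_injective (MulAut.conj g).toMonoidHom (MulEquiv.injective _) u
          · simp only [Finset.mem_filter, Finset.mem_univ, true_and]
            exact ConjClasses.mk_eq_mk_iff_isConj.2 hy.symm
      rw [hcard]
      set C := centralizer {u} with hC
      set Z := (zpowers u).subgroupOf C with hZ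
      haveI : Z.Normal := ⟨fun z hz v => by
        rw [hZ, mem_subgroupOf] at hz ⊢
        obtain ⟨i, hi⟩ := hz
        simp only at hi
        have hv : Commute (v : G) u := mem_centralizer_singleton_iff.1 v.2
        simp only [Subgroup.coe_mul, InvMemClass.coe_inv]
        rw [← hi, (hv.zpow_right i).eq, mul_inv_cancel_right]
        exact ⟨i, rfl⟩⟩
      rw [card_centralizer_solutions (hu.symm ▸ hcop.symm) C hC Z hZ, card_pow_eq_one_gcd]
      have huC : u ∈ C := mem_centralizer_singleton_iff.2 rfl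
      have hZc : Nat.card Z = e := by
        rw [hZ, Nat.card_congr (subgroupOfEquivOfLe (zpowers_le.2 huC)).toEquiv, Nat.card_zpowers,
          hu]
      have hCQ : Nat.card C = Nat.card (C ⧸ Z) * e := by
        rw [card_eq_card_quotient_mul_card_subgroup Z, hZc]
      have hsmall : Nat.card (C ⧸ Z) < Nat.card G := by
        refine lt_of_lt_of_le ?_ (card_le_card_group C)
        rw [hCQ]
        exact lt_mul_of_one_lt_right Nat.card_pos (Nat.one_lt_pow (Nat.succ_ne_zero j) hp.one_lt)
      have hrec := ih _ hsmall (G := C ⧸ Z) (Nat.gcd_dvd_right m _) rfl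
      refine Dvd.dvd.trans ?_ (mul_dvd_mul_left C.index hrec)
      have hg : Nat.gcd m (Nat.card C) = Nat.gcd m (Nat.card (C ⧸ Z)) := by
        rw [hCQ, mul_comm]; exact Nat.Coprime.gcd_mul_left_cancel_right _ hcop
      rw [← hg, ← Nat.gcd_mul_left, Subgroup.index_mul_card]
      exact Nat.dvd_gcd (dvd_mul_left m _) ((dvd_mul_left m (p ^ j)).trans (hnm ▸ ⟨r, hr⟩))
    · intro x hx
      simp only [Finset.mem_filter, Finset.mem_univ, true_and] at hx
      obtain ⟨g, hg⟩ := isConj_iff.1 (ConjClasses.mk_eq_mk_iff_isConj.1 hx).symm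
      refine (Nat.card_congr (Equiv.subtypeEquiv
        (((MulAut.conj g).subgroupMap (centralizer {u})).trans (MulEquiv.subgroupCongr ?_)).toEquiv
        fun v => ?_)).symm
      · rw [← hg]
        ext y
        simp only [mem_map, mem_centralizer_singleton_iff]
        constructor
        · rintro ⟨z, hz, rfl⟩
          change g * z * g⁻¹ * (g * u * g⁻¹) = g * u * g⁻¹ * (g * z * g⁻¹)
          calc g * z * g⁻¹ * (g * u * g⁻¹) = g * (z * u) * g⁻¹ := by group
            _ = g * (u * z) * g⁻¹ := by rw [hz]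
            _ = g * u * g⁻¹ * (g * z * g⁻¹) := by group
        · intro hy
          refine ⟨g⁻¹ * y * g, ?_, show g * (g⁻¹ * y * g) * g⁻¹ = y by group⟩
          calc g⁻¹ * y * g * u = g⁻¹ * (y * (g * u * g⁻¹)) * g := by group
            _ = g⁻¹ * (g * u * g⁻¹ * y) * g := by rw [hy]
            _ = u * (g⁻¹ * y * g) := by group
      · simp [← map_pow]
  have := (Nat.Coprime.mul_dvd_of_dvd_of_dvd
    (Nat.Coprime.pow_left j ((Nat.Prime.coprime_iff_not_dvd hp).2 hm)) hA hB)
  rwa [← hnm] at this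

/-- Frobenius' theorem. -/
theorem gcd_dvd_card_pow_eq_one (n : ℕ) :
    Nat.gcd n (Nat.card G) ∣ Nat.card {x : G // x ^ n = 1} := by
  rw [card_pow_eq_one_gcd]
  exact frobenius_dvd_card (Nat.gcd_dvd_right n _)

end Cfsg.Agent.Solvable
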