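import Cfsg.Agent.Lib.Solvable.Supersolvable
import Cfsg.Agent.Lib.Solvable.System
import Cfsg.Agent.Lib.Fitting.Minimal

/-!
Groups all of whose subgroups satisfy the converse of Lagrange's theorem.
-/

set_option autoImplicit false

namespace Cfsg.Agent.Solvable

open Subgroup
open scoped Pointwise

universe u

variable {G : Type u} [Group G]

theorem hasSubgroupOfEveryOrder_congr {G' : Type*} [Group G'] (e : G ≃* G')
    (h : Cfsg.HasSubgroupOfEveryOrder G) : Cfsg.HasSubgroupOfEveryOrder G' := by
  intro d hd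
  obtain ⟨H, hH⟩ := h d (Nat.card_congr e.toEquiv ▸ hd)
  exact ⟨H.map e.toMonoidHom, by rw [card_map_of_injective e.injective, hH]⟩

theorem hereditary_subgroup (h : ∀ H : Subgroup G, Cfsg.HasSubgroupOfEveryOrder H)
    (M : Subgroup G) : ∀ H : Subgroup M, Cfsg.HasSubgroupOfEveryOrder H := fun H =>
  hasSubgroupOfEveryOrder_congr (H.equivMapOfInjective _ M.subtype_injective).symm (h _)

theorem exists_subgroup_index_eq [Finite G] (h : ∀ H : Subgroup G, Cfsg.HasSubgroupOfEveryOrder H)
    {r : ℕ} (hr : 0 < r) (hdvd : r ∣ Nat.card G) : ∃ M : Subgroup G, M.index = r := by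
  have hG := hasSubgroupOfEveryOrder_congr Subgroup.topEquiv (h ⊤)
  obtain ⟨M, hM⟩ := hG (Nat.card G / r) (Nat.div_dvd_of_dvd hdvd)
  refine ⟨M, ?_⟩
  have := M.card_mul_index
  rw [hM] at this
  conv_rhs at this => rw [← Nat.div_mul_cancel hdvd]
  exact Nat.eq_of_mul_eq_mul_left
    (Nat.div_pos (Nat.le_of_dvd Nat.card_pos hdvd) hr) this

theorem normal_sylow_largest_prime [Finite G]
    (h : ∀ H : Subgroup G, Cfsg.HasSubgroupOfEveryOrder H) {p : ℕ} [hp : Fact p.Prime]
    (hdvd : p ∣ Nat.card G) (hmax : ∀ q : ℕ, q.Prime → q ∣ Nat.card G → q ≤ p) (P : Sylow p G) :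
    (P : Subgroup G).Normal := by
  induction hk : Nat.card G using Nat.strong_induction_on generalizing G with
  | _ k ih =>
  have hG1 : Nat.card G ≠ 1 := fun h1 => hp.out.ne_one (Nat.dvd_one.1 (h1 ▸ hdvd))
  set r := (Nat.card G).minFac with hr
  have hrp : r.Prime := Nat.minFac_prime hG1
  by_cases hrp' : r = p
  · -- a `p`-group
    have hall : ∀ q : ℕ, q.Prime → q ∣ Nat.card G → q = p := fun q hq hqd =>
      le_antisymm (hmax q hq hqd) (hrp' ▸ Nat.minFac_le_of_dvd hq.two_le hqd)
    have hpG : IsPGroup p G := by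
      exact IsPGroup.of_card
        (Nat.eq_prime_pow_of_unique_prime_dvd Nat.card_pos.ne' (fun hq hd => hall _ hq hd))
    have : (P : Subgroup G) = ⊤ := (P.is_maximal' (IsPGroup.iff_card.2
      (by rw [Subgroup.card_top]; exact IsPGroup.iff_card.1 hpG)) le_top).symm
    rw [this]; infer_instance
  obtain ⟨M, hM⟩ := exists_subgroup_index_eq h hrp.pos (Nat.minFac_dvd _)
  have hMn : M.Normal := normal_of_index_eq_minFac_card hM
  have hPM : (P : Subgroup G) ≤ M := le_of_isPGroup_of_le_normalizer P.isPGroup'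
    (by rw [normalizer_eq_top_iff.2 hMn]; exact le_top)
    (hM ▸ (Nat.coprime_primes hp.out hrp).2 (Ne.symm hrp'))
  have hlt : Nat.card M < k := by
    rw [← hk, ← M.card_mul_index, hM]
    exact lt_mul_of_one_lt_right Nat.card_pos hrp.one_lt
  have hpM : p ∣ Nat.card M := by
    have := hdvd
    rw [← M.card_mul_index, hM] at this
    exact (hp.out.dvd_mul.1 this).resolve_right fun h' =>
      hrp' ((Nat.prime_dvd_prime_iff_eq hp.out hrp).1 h').symm
  have hn := ih _ hlt (hereditary_subgroup h M) hpM
    (fun q hq hqd => hmax q hq (hqd.trans (card_subgroup_dvd_card M))) (P.subtype hPM) rfl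
  have hch : ((P.subtype hPM : Sylow p M) : Subgroup M).Characteristic :=
    (P.subtype hPM).characteristic_of_normal hn
  have : (((P.subtype hPM : Sylow p M) : Subgroup M).map M.subtype).Normal := inferInstance
  rwa [Sylow.coe_subtype, map_subgroupOf_eq_of_le hPM] at this

/-- A minimal normal subgroup of a supersolvable group has prime order. -/
theorem prime_card_of_minimal_normal [Finite G] (hG : Cfsg.IsSupersolvable G) (L : Subgroup G)
    [L.Normal] (hL : L ≠ ⊥) (hmin : ∀ K : Subgroup G, K.Normal → K ≤ L → K = ⊥ ∨ K = L) :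
    (Nat.card L).Prime := by
  induction hk : Nat.card G using Nat.strong_induction_on generalizing G with
  | _ k ih =>
  have : Nontrivial G := by
    by_contra h
    rw [not_nontrivial_iff_subsingleton] at h
    exact hL (Subsingleton.elim _ _)
  obtain ⟨R, hR, hRp⟩ := exists_normal_prime_card hG
  have hRb : R ≠ ⊥ := fun h => hRp.ne_one (card_eq_one.2 h)
  rcases hmin (R ⊓ L) inferInstance inf_le_right with h | h
  swap
  · have hLR : L ≤ R := inf_eq_right.1 h
    rcases hRp.eq_one_or_self_of_dvd _ (card_dvd_of_le hLR) with h' | h'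
    · exact absurd (card_eq_one.1 h') hL
    · rwa [h']
  set π := QuotientGroup.mk' R
  have hπ : Function.Surjective π := QuotientGroup.mk'_surjective R
  have hLn : (L.map π).Normal := Normal.map inferInstance π hπ
  have hc : Nat.card (L.map π) = Nat.card L := by
    have := card_map_mk'_mul L R
    rwa [inf_comm, h, card_bot, mul_one] at this
  rw [← hc]
  refine ih _ (hk ▸ card_quotient_lt R hRb) (isSupersolvable_quotient R hG) (L.map π)
    (fun hb => hL (card_eq_one.1 (hc ▸ card_eq_one.2 hb))) (fun K hK hKL => ?_) rfl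
  rcases hmin (K.comap π ⊓ L) inferInstance inf_le_right with h1 | h1
  · left
    rw [eq_bot_iff, ← map_comap_eq_self_of_surjective hπ K]
    rintro _ ⟨x, hx, rfl⟩
    obtain ⟨l, hl, he⟩ := hKL (hx : π x ∈ K)
    have : l ∈ K.comap π ⊓ L := ⟨by show π l ∈ K; rw [he]; exact hx, hl⟩
    rw [h1, mem_bot] at this
    rw [mem_bot, ← he, this, map_one]
  · right
    refine le_antisymm hKL ?_
    rw [← map_comap_eq_self_of_surjective hπ K]
    exact map_mono (inf_eq_right.1 h1)

/-- If `G = P M` with `P` a normal `p`-subgroup and `M` supersolvable of index `p`, then `G` is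
supersolvable. -/
theorem isSupersolvable_of_sup_index_prime [Finite G] {p : ℕ} [hp : Fact p.Prime]
    (P M : Subgroup G) [P.Normal] (hP : IsPGroup p P) (hM : Cfsg.IsSupersolvable M)
    (hsup : P ⊔ M = ⊤) (hcard : Nat.card P = p * Nat.card ↥(P ⊓ M)) :
    Cfsg.IsSupersolvable G := by
  induction hk : Nat.card G using Nat.strong_induction_on generalizing G with
  | _ k ih =>
  by_cases hA : P ⊓ M = ⊥
  · rw [hA, card_bot, mul_one] at hcard
    have : IsCyclic P := isCyclic_of_card_prime (hcard ▸ hp.out)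
    refine isSupersolvable_of_cyclic_normal P (isSupersolvable_of_surjective
      ((QuotientGroup.mk' P).comp M.subtype) (fun q => ?_) hM)
    obtain ⟨g, rfl⟩ := QuotientGroup.mk'_surjective P q
    have hg : g ∈ P ⊔ M := hsup ▸ mem_top g
    rw [mem_sup_of_normal_left] at hg
    obtain ⟨a, ha, b, hb, rfl⟩ := hg
    exact ⟨⟨b, hb⟩, by simp [(QuotientGroup.eq_one_iff a).2 ha]⟩
  -- `A = P ⊓ M` is normal
  have hPn : Group.IsNilpotent P := hP.isNilpotent
  have hPcard : Nat.card P ≠ 1 := by
    rw [hcard]; intro h; exact hp.out.ne_one (Nat.eq_one_of_mul_eq_one_right h)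
  have hidx : ((P ⊓ M).subgroupOf P).index = p := by
    have := ((P ⊓ M).subgroupOf P).card_mul_index
    rw [card_subgroupOf inf_le_left, hcard, mul_comm p] at this
    exact Nat.eq_of_mul_eq_mul_left Nat.card_pos this
  have hAP : ((P ⊓ M).subgroupOf P).Normal := by
    refine normal_of_index_eq_minFac_card (hidx.trans ?_)
    obtain ⟨j, hj⟩ := IsPGroup.iff_card.1 hP
    rcases j with _ | j
    · exact absurd (hj.trans (pow_zero p)) hPcard
    · rw [hj, Nat.pow_minFac (Nat.succ_ne_zero _), hp.out.minFac_eq]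
  have hAn : (P ⊓ M).Normal := by
    rw [← normalizer_eq_top_iff, eq_top_iff, ← hsup]
    refine sup_le ((normal_subgroupOf_iff_le_normalizer inf_le_left).1 hAP) fun x hx => ?_
    rw [mem_normalizer_iff]
    intro y
    constructor
    · rintro ⟨h1, h2⟩
      exact ⟨Normal.conj_mem inferInstance y h1 x, M.mul_mem (M.mul_mem hx h2) (M.inv_mem hx)⟩
    · rintro ⟨h1, h2⟩
      refine ⟨?_, ?_⟩
      · simpa [mul_assoc] using Normal.conj_mem (inferInstance : P.Normal) _ h1 x⁻¹
      · simpa [mul_assoc] using M.mul_mem (M.mul_mem (M.inv_mem hx) h2) hx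
  obtain ⟨N, hNn, hN, hNA, hmin⟩ := exists_minimal_normal_le (P ⊓ M) hA
  have hNP : N ≤ P := hNA.trans inf_le_left
  have hNM : N ≤ M := hNA.trans inf_le_right
  -- `N` is central in `P`
  have hNz : N ≤ (center P).map P.subtype := by
    rcases hmin (N ⊓ (center P).map P.subtype) inferInstance inf_le_left with h | h
    · exfalso
      have h2 := Cfsg.Agent.Fitting.inf_center_ne_bot (G := P) (N := N.subgroupOf P)
        (fun hb => hN (by rw [← map_subgroupOf_eq_of_le hNP, hb, Subgroup.map_bot]))
      refine h2 (eq_bot_iff.2 fun x hx => ?_)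
      have : (x : G) ∈ N ⊓ (center P).map P.subtype := ⟨hx.1, mem_map_of_mem _ hx.2⟩
      rw [h, mem_bot, OneMemClass.coe_eq_one] at this
      exact mem_bot.2 this
    · exact inf_eq_left.1 h
  -- hence `N` has prime order
  have hNp : (Nat.card N).Prime := by
    obtain ⟨L, hLn, hL, hLN, hLmin⟩ := exists_minimal_normal_le (N.subgroupOf M)
      (fun hb => hN (by rw [← map_subgroupOf_eq_of_le hNM, hb, Subgroup.map_bot]))
    have hLp := prime_card_of_minimal_normal hM L hL hLmin
    have hle : L.map M.subtype ≤ N :=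
      (map_mono hLN).trans (map_subgroupOf_eq_of_le hNM).le
    have hLG : (L.map M.subtype).Normal := by
      rw [← normalizer_eq_top_iff, eq_top_iff, ← hsup]
      refine sup_le (fun x hx => ?_) ?_
      · refine centralizer_le_normalizer _ (mem_centralizer_iff.2 fun y hy => ?_)
        obtain ⟨z, hz, rfl⟩ := hNz (hle hy)
        exact (congrArg Subtype.val (mem_center_iff.1 hz ⟨x, hx⟩)).symm
      · have := le_normalizer_map (H := L) M.subtype
        rw [normalizer_eq_top_iff.2 hLn, ← MonoidHom.range_eq_map, range_subtype] at this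
        exact this
    rcases hmin _ hLG hle with h | h
    · rw [map_eq_bot_iff_of_injective _ M.subtype_injective] at h
      exact absurd h hL
    · rw [← h, card_map_of_injective M.subtype_injective]; exact hLp
  have : IsCyclic N := isCyclic_of_card_prime hNp
  refine isSupersolvable_of_cyclic_normal N ?_
  set π := QuotientGroup.mk' N
  have hπ : Function.Surjective π := QuotientGroup.mk'_surjective N
  have : (P.map π).Normal := Normal.map inferInstance π hπ
  have hsupq : P.map π ⊔ M.map π = ⊤ := by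
    rw [← Subgroup.map_sup, hsup, map_top_of_surjective _ hπ]
  have hinf : P.map π ⊓ M.map π = (P ⊓ M).map π := by
    apply comap_injective hπ
    rw [comap_inf, comap_map_mk', comap_map_mk', comap_map_mk', sup_eq_left.2 hNP,
      sup_eq_left.2 hNM, sup_eq_left.2 hNA]
  refine ih _ (hk ▸ card_quotient_lt N hN) (P.map π) (M.map π) (hP.map π) ?_ hsupq ?_ rfl
  · exact isSupersolvable_of_surjective (π.subgroupMap M) (MonoidHom.subgroupMap_surjective _ _) hM
  · rw [hinf]
    apply Nat.eq_of_mul_eq_mul_right (Nat.card_pos (α := N))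
    rw [card_map_mk'_of_le P N hNP, mul_assoc, card_map_mk'_of_le _ N hNA, hcard]

theorem isSupersolvable_of_hereditary [Finite G]
    (h : ∀ H : Subgroup G, Cfsg.HasSubgroupOfEveryOrder H) : Cfsg.IsSupersolvable G := by
  induction hk : Nat.card G using Nat.strong_induction_on generalizing G with
  | _ k ih =>
  rcases subsingleton_or_nontrivial G with hs | hs
  · exact isSupersolvable_of_subsingleton
  obtain ⟨p, ⟨hp, hpd⟩, hmax⟩ : ∃ q, (q.Prime ∧ q ∣ Nat.card G) ∧
      ∀ r : ℕ, r.Prime → r ∣ Nat.card G → r ≤ q := by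
    obtain ⟨q, hq, hqd⟩ := Nat.exists_prime_and_dvd (n := Nat.card G) Finite.one_lt_card.ne'
    obtain ⟨m, hm, hm'⟩ := (Nat.card G).primeFactors.exists_max_image id
      ⟨q, Nat.mem_primeFactors.2 ⟨hq, hqd, Nat.card_pos.ne'⟩⟩
    exact ⟨m, ⟨Nat.prime_of_mem_primeFactors hm, Nat.dvd_of_mem_primeFactors hm⟩,
      fun r hr hrd => hm' r (Nat.mem_primeFactors.2 ⟨hr, hrd, Nat.card_pos.ne'⟩)⟩
  have : Fact p.Prime := ⟨hp⟩
  obtain ⟨P⟩ : Nonempty (Sylow p G) := inferInstance
  have := normal_sylow_largest_prime h hpd hmax P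
  obtain ⟨M, hM⟩ := exists_subgroup_index_eq h hp.pos hpd
  have hlt : Nat.card M < k := by
    rw [← hk, ← M.card_mul_index, hM]
    exact lt_mul_of_one_lt_right Nat.card_pos hp.one_lt
  have hMs := ih _ hlt (hereditary_subgroup h M) rfl
  have hPM : ¬ (P : Subgroup G) ≤ M := by
    intro hle
    have h1 := card_dvd_of_le hle
    rw [P.card_eq_multiplicity] at h1
    have h2 := M.card_mul_index
    rw [hM] at h2
    rw [← h2, Nat.factorization_mul Nat.card_pos.ne' hp.ne_zero, Finsupp.coe_add, Pi.add_apply,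
      hp.factorization_self, hp.pow_dvd_iff_le_factorization Nat.card_pos.ne'] at h1
    omega
  have hcoatom : IsCoatom M := by
    refine ⟨fun ht => ?_, fun X hX => ?_⟩
    · rw [ht, index_top] at hM; exact hp.ne_one hM.symm
    · rcases hp.eq_one_or_self_of_dvd _ (hM ▸ index_dvd_of_le hX.le) with h' | h'
      · exact index_eq_one.1 h'
      · refine absurd (eq_of_le_of_card_le hX.le ?_) hX.ne
        have h1 := X.card_mul_index
        rw [h', ← M.card_mul_index, hM] at h1
        exact (Nat.eq_of_mul_eq_mul_right hp.pos h1).le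
  have hsup := sup_eq_top_of_coatom hcoatom hPM
  refine isSupersolvable_of_sup_index_prime (P : Subgroup G) M P.isPGroup' hMs hsup ?_
  have h1 := card_sup_mul_card_inf M (P : Subgroup G)
  rw [sup_comm, hsup, Subgroup.card_top, inf_comm, ← M.card_mul_index, hM, mul_assoc] at h1
  exact (Nat.eq_of_mul_eq_mul_left Nat.card_pos h1).symm

end Cfsg.Agent.Solvable
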