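import Mathlib.GroupTheory.Sylow
import Mathlib.GroupTheory.Nilpotent
import Mathlib.Algebra.BigOperators.Ring.Finset
import Mathlib.Algebra.BigOperators.Group.Finset.Powerset
import Cfsg.Agent.Lib.Solvable.Conj

/-!
Casolo's formula: for a `p`-subgroup `H`, the number of elements `g` which normalise some
`p`-subgroup containing `H` is the number of Sylow `p`-subgroups containing `H` times `|N(P)|`.

The proof is an induction on `|G|` and downwards on `H`: the alternating sum over the subsets
`A` of `N(H) \ H` of the two sides at `⟨H, A⟩` agree.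
-/

set_option autoImplicit false

namespace Cfsg.Agent.Solvable

open Subgroup
open scoped Pointwise

universe u

/-- `g` normalises a `p`-subgroup containing `H`. -/
def NormalisesOver {G : Type*} [Group G] (p : ℕ) (H : Subgroup G) (g : G) : Prop :=
  ∃ R : Subgroup G, IsPGroup p R ∧ H ≤ R ∧ g ∈ normalizer (R : Set G)

/-- The number of elements normalising a `p`-subgroup containing `H`. -/
noncomputable def normCount {G : Type*} [Group G] (p : ℕ) (H : Subgroup G) : ℕ :=
  Nat.card {g : G // NormalisesOver p H g}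

/-- `λ(H) * |N(P)|`. -/
noncomputable def sylCount {G : Type*} [Group G] (p : ℕ) (P : Sylow p G) (H : Subgroup G) : ℕ :=
  Nat.card {Q : Sylow p G // H ≤ (Q : Subgroup G)} *
    Nat.card (normalizer ((P : Subgroup G) : Set G))

theorem signed_sum_eq_zero {α : Type*} [DecidableEq α] (E : Finset α) (u : α) (hu : u ∈ E)
    (f : Finset α → ℤ) (hf : ∀ A ⊆ E, u ∉ A → f (insert u A) = f A) :
    ∑ A ∈ E.powerset, (-1 : ℤ) ^ A.card * f A = 0 := by
  rw [← Finset.insert_erase hu, Finset.sum_powerset_insert (Finset.notMem_erase u E),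
    ← Finset.sum_add_distrib]
  refine Finset.sum_eq_zero fun A hA => ?_
  have hA' := Finset.mem_powerset.1 hA
  have huA : u ∉ A := fun h => Finset.notMem_erase u E (hA' h)
  rw [Finset.card_insert_of_notMem huA, hf A (hA'.trans (Finset.erase_subset u E)) huA, pow_succ]
  ring

section

variable {G : Type u} [Group G] [Finite G] {p : ℕ} [hp : Fact p.Prime]

/-- A proper `p`-overgroup meets the normalizer properly. -/
theorem exists_mem_normalizer_notMem {H R : Subgroup G} (hR : IsPGroup p R) (hle : H ≤ R)
    (hne : H ≠ R) : ∃ u ∈ R, u ∈ normalizer (H : Set G) ∧ u ∉ H := by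
  haveI := hR.isNilpotent
  have hlt : H.subgroupOf R < ⊤ := lt_top_iff_ne_top.2 fun h =>
    hne (le_antisymm hle (subgroupOf_eq_top.1 h))
  obtain ⟨⟨u, huR⟩, hu, hu'⟩ := SetLike.exists_of_lt (normalizerCondition_of_isNilpotent _ hlt)
  refine ⟨u, huR, mem_normalizer_iff.2 fun n => ⟨fun hn => ?_, fun hn => ?_⟩, hu'⟩
  · exact (mem_normalizer_iff.1 hu ⟨n, hle hn⟩).1 hn
  · have hnR : n ∈ R := by
      have := R.mul_mem (R.mul_mem (R.inv_mem huR) (hle hn)) huR
      simpa [mul_assoc] using this
    exact (mem_normalizer_iff.1 hu ⟨n, hnR⟩).2 hn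

theorem not_isPGroup_count {H : Subgroup G} (hH : ¬ IsPGroup p H) (P : Sylow p G) :
    normCount p H = 0 ∧ sylCount p P H = 0 := by
  constructor
  · haveI : IsEmpty {g : G // NormalisesOver p H g} :=
      ⟨fun ⟨_, R, hR, hHR, _⟩ => hH (hR.to_le hHR)⟩
    exact Nat.card_of_isEmpty
  · haveI : IsEmpty {Q : Sylow p G // H ≤ (Q : Subgroup G)} :=
      ⟨fun ⟨Q, hQ⟩ => hH (Q.isPGroup'.to_le hQ)⟩
    rw [sylCount, Nat.card_of_isEmpty, zero_mul]

theorem card_sylow (P : Sylow p G) :
    Nat.card (Sylow p G) = (normalizer ((P : Subgroup G) : Set G)).index :=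
  P.card_eq_index_normalizer

theorem card_normalizer_sylow (P Q : Sylow p G) :
    Nat.card (normalizer ((Q : Subgroup G) : Set G)) =
      Nat.card (normalizer ((P : Subgroup G) : Set G)) := by
  refine Nat.eq_of_mul_eq_mul_right (Nat.card_pos (α := Sylow p G)) ?_
  conv_lhs => rw [card_sylow Q, card_mul_index]
  conv_rhs => rw [card_sylow P, card_mul_index]

theorem count_of_maximal (P Q : Sylow p G) :
    normCount p (Q : Subgroup G) = sylCount p P (Q : Subgroup G) := by
  rw [sylCount, ← card_normalizer_sylow P Q]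
  have h1 : Nat.card {R : Sylow p G // (Q : Subgroup G) ≤ R} = 1 := by
    rw [Nat.card_eq_one_iff_exists]
    exact ⟨⟨Q, le_rfl⟩, fun R => Subtype.ext (Sylow.ext (Q.is_maximal' R.1.isPGroup' R.2))⟩
  rw [h1, one_mul]
  refine Nat.card_congr (Equiv.subtypeEquivRight fun g => ⟨?_, fun hg => ⟨Q, Q.isPGroup', le_rfl, hg⟩⟩)
  rintro ⟨R, hR, hQR, hg⟩
  rwa [Q.is_maximal' hR hQR] at hg

theorem count_of_normal (P : Sylow p G) {H : Subgroup G} [H.Normal] (hH : IsPGroup p H) :
    normCount p H = sylCount p P H := by
  have hall : ∀ Q : Sylow p G, H ≤ (Q : Subgroup G) := fun Q =>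
    sup_eq_right.mp (Q.is_maximal' (hH.to_sup_of_normal_left Q.isPGroup') le_sup_right)
  rw [sylCount, Nat.card_congr (Equiv.subtypeUnivEquiv hall), card_sylow P,
    index_mul_card]
  exact Nat.card_congr (Equiv.subtypeUnivEquiv fun g =>
    ⟨H, hH, le_rfl, by rw [normalizer_eq_top]; exact mem_top g⟩)

/-- The alternating sum of `sylCount` vanishes at a non-Sylow subgroup. -/
theorem signed_sylCount (P : Sylow p G) {H : Subgroup G}
    (hns : ∀ Q : Sylow p G, H ≠ (Q : Subgroup G)) [DecidableEq G] (E : Finset G)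
    (hE : ∀ x, x ∈ normalizer (H : Set G) → x ∉ H → x ∈ E) :
    ∑ A ∈ E.powerset, (-1 : ℤ) ^ A.card * (sylCount p P (H ⊔ closure (A : Set G)) : ℤ) = 0 := by
  classical
  haveI := Fintype.ofFinite (Sylow p G)
  have hexp : ∀ A : Finset G, (sylCount p P (H ⊔ closure (A : Set G)) : ℤ) =
      ∑ Q : Sylow p G, (if H ⊔ closure (A : Set G) ≤ (Q : Subgroup G) then
        (Nat.card (normalizer ((P : Subgroup G) : Set G)) : ℤ) else 0) := by
    intro A
    rw [sylCount, Nat.card_eq_fintype_card, Fintype.card_subtype, Nat.cast_mul, ← Finset.sum_filter,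
      Finset.sum_const, nsmul_eq_mul]
  simp only [hexp, Finset.mul_sum]
  rw [Finset.sum_comm]
  refine Finset.sum_eq_zero fun Q _ => ?_
  by_cases hHQ : H ≤ (Q : Subgroup G)
  · obtain ⟨u, huQ, huN, huH⟩ := exists_mem_normalizer_notMem Q.isPGroup' hHQ (hns Q)
    refine signed_sum_eq_zero E u (hE u huN huH) _ fun A _ _ => ?_
    simp only [sup_le_iff, closure_le, Finset.coe_insert, Set.insert_subset_iff, SetLike.mem_coe,
      huQ, true_and]
  · refine Finset.sum_eq_zero fun A _ => ?_
    rw [if_neg (fun h => hHQ (le_sup_left.trans h)), mul_zero]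

end

/-- Casolo's formula. -/
theorem normCount_eq_sylCount {G : Type u} [Group G] [Finite G] {p : ℕ} [Fact p.Prime]
    (P : Sylow p G) (H : Subgroup G) : normCount p H = sylCount p P H := by
  classical
  induction hN : Nat.card G using Nat.strong_induction_on generalizing G with
  | _ k ih =>
  induction hd : Nat.card G - Nat.card H using Nat.strong_induction_on generalizing H with
  | _ d ih2 =>
  by_cases hH : IsPGroup p H
  swap
  · rw [(not_isPGroup_count hH P).1, (not_isPGroup_count hH P).2]
  by_cases hsyl : ∃ Q : Sylow p G, H = (Q : Subgroup G)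
  · obtain ⟨Q, rfl⟩ := hsyl
    exact count_of_maximal P Q
  push Not at hsyl
  set N := normalizer (H : Set G) with hNdef
  by_cases htop : N = ⊤
  · haveI : H.Normal := normalizer_eq_top_iff.1 htop
    exact count_of_normal P hH
  have hNlt : Nat.card N < k := by
    rw [← hN]
    exact lt_of_le_of_ne (card_le_card_group N) fun h => htop (eq_top_of_card_eq N h)
  have hHN : H ≤ N := le_normalizer
  haveI := Fintype.ofFinite G
  set E : Finset G := Finset.univ.filter fun x => x ∈ N ∧ x ∉ H with hE
  have hEmem : ∀ x, x ∈ N → x ∉ H → x ∈ E := fun x h1 h2 => by simp [hE, h1, h2]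
  -- the alternating sum of `normCount` reduces to the one inside `N`
  let T : Finset G → Subgroup G := fun A => H ⊔ closure (A : Set G)
  have hTN : ∀ A ∈ E.powerset, T A ≤ N := fun A hA => sup_le hHN ((closure_le _).2 fun x hx => by
    have := Finset.mem_powerset.1 hA hx
    simp only [hE, Finset.mem_filter] at this
    exact this.2.1)
  have hexp : ∀ A : Finset G, (normCount p (T A) : ℤ) =
      ∑ g : G, (if NormalisesOver p (T A) g then (1 : ℤ) else 0) := by
    intro A
    rw [normCount, Nat.card_eq_fintype_card, Fintype.card_subtype, Finset.sum_boole]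
  haveI := Fintype.ofFinite N
  have hexpN : ∀ A : Finset G, (normCount p ((T A).subgroupOf N) : ℤ) =
      ∑ g : N, (if NormalisesOver p ((T A).subgroupOf N) g then (1 : ℤ) else 0) := by
    intro A
    rw [normCount, Nat.card_eq_fintype_card, Fintype.card_subtype, Finset.sum_boole]
  have hrestrict : ∀ A ∈ E.powerset, ∀ g : N,
      NormalisesOver p (T A) (g : G) ↔ NormalisesOver p ((T A).subgroupOf N) g := by
    intro A hA g
    constructor
    · rintro ⟨R, hR, hTR, hg⟩
      refine ⟨R.subgroupOf N, hR.comap_of_injective N.subtype N.subtype_injective,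
        fun x hx => hTR hx, ?_⟩
      rw [mem_normalizer_iff]
      exact fun x => mem_normalizer_iff.1 hg x
    · rintro ⟨R, hR, hTR, hg⟩
      refine ⟨R.map N.subtype, hR.map _, fun x hx => ⟨⟨x, hTN A hA hx⟩, hTR hx, rfl⟩, ?_⟩
      exact le_normalizer_map N.subtype (mem_map_of_mem N.subtype hg)
  have hswap : ∑ A ∈ E.powerset, (-1 : ℤ) ^ A.card * (normCount p (T A) : ℤ) =
      ∑ A ∈ E.powerset, (-1 : ℤ) ^ A.card * (normCount p ((T A).subgroupOf N) : ℤ) := by
    simp only [hexp, hexpN, Finset.mul_sum]
    rw [Finset.sum_comm, Finset.sum_comm (s := E.powerset),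
      ← Finset.sum_subset (Finset.subset_univ (Finset.univ.filter fun g => g ∈ N))]
    · rw [Finset.sum_subtype (p := fun g => g ∈ N) _ (by simp)]
      refine Finset.sum_congr rfl fun g _ => Finset.sum_congr rfl fun A hA => ?_
      simp only [hrestrict A hA g]
    · intro g _ hg
      have hgN : g ∉ N := by simpa using hg
      by_cases hs : NormalisesOver p H g
      · obtain ⟨R₀, hR₀, hHR₀, hg₀⟩ := hs
        obtain ⟨K, hKR, ⟨hHK, hgK⟩, hmin⟩ := Finite.exists_le_minimal
          (p := fun R : Subgroup G => H ≤ R ∧ g ∈ normalizer (R : Set G)) (a := R₀) ⟨hHR₀, hg₀⟩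
        have hne : H ≠ K := fun h => hgN (by rw [hNdef, h]; exact hgK)
        obtain ⟨u, huK, huN, huH⟩ :=
          exists_mem_normalizer_notMem (hR₀.to_le hKR) hHK hne
        refine signed_sum_eq_zero E u (hEmem u huN huH) _ fun A _ _ => ?_
        have : NormalisesOver p (T (insert u A)) g ↔ NormalisesOver p (T A) g := by
          simp only [T, NormalisesOver, sup_le_iff, closure_le, Finset.coe_insert,
            Set.insert_subset_iff, SetLike.mem_coe]
          constructor
          · rintro ⟨R, hR, ⟨h1, -, h2⟩, hg'⟩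
            exact ⟨R, hR, ⟨h1, h2⟩, hg'⟩
          · rintro ⟨R, hR, ⟨h1, h2⟩, hg'⟩
            have hi : g ∈ normalizer ((K ⊓ R : Subgroup G) : Set G) := by
              rw [mem_normalizer_iff] at hgK hg' ⊢
              intro x
              simp only [mem_inf]
              rw [hgK x, hg' x]
            exact ⟨R, hR, ⟨h1, (hmin ⟨le_inf hHK h1, hi⟩ inf_le_left huK).2, h2⟩, hg'⟩
        simp only [this]
      · refine Finset.sum_eq_zero fun A _ => ?_
        rw [if_neg, mul_zero]
        rintro ⟨R, hR, hTR, hg'⟩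
        exact hs ⟨R, hR, le_sup_left.trans hTR, hg'⟩
  -- inside `N` the two counts agree
  obtain ⟨P'⟩ : Nonempty (Sylow p N) := inferInstance
  have hN0 : ∑ A ∈ E.powerset, (-1 : ℤ) ^ A.card * (normCount p ((T A).subgroupOf N) : ℤ) = 0 := by
    have heq : ∀ A : Finset G, normCount p ((T A).subgroupOf N) =
        sylCount p P' ((T A).subgroupOf N) := fun A => ih _ hNlt P' _ rfl
    simp only [heq]
    -- move to subsets of `N`
    set E' : Finset N := E.subtype (fun x => x ∈ N) with hE'
    have hEN : ∀ x ∈ E, x ∈ N := fun x hx => by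
      simp only [hE, Finset.mem_filter] at hx
      exact hx.2.1
    have hmap : E'.map (Function.Embedding.subtype _) = E := by
      rw [hE', Finset.subtype_map_of_mem hEN]
    have hz := signed_sylCount P' (H := H.subgroupOf N) ?_ E' (fun x _ hx => ?_)
    · rw [← hz]
      symm
      refine Finset.sum_bij (fun B _ => B.map (Function.Embedding.subtype _)) ?_ ?_ ?_ ?_
      · intro B hB
        rw [Finset.mem_powerset] at hB ⊢
        rw [← hmap]
        exact Finset.map_subset_map.2 hB
      · intro B _ C _ h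
        exact Finset.map_injective _ h
      · intro A hA
        rw [Finset.mem_powerset] at hA
        refine ⟨A.subtype (fun x => x ∈ N), ?_, Finset.subtype_map_of_mem fun x hx => hEN x (hA hx)⟩
        rw [Finset.mem_powerset]
        intro x hx
        simp only [Finset.mem_subtype, hE'] at hx ⊢
        exact hA hx
      · intro B hB
        rw [Finset.card_map]
        congr 3
        apply map_injective (f := N.subtype) N.subtype_injective
        rw [Subgroup.map_sup, map_subgroupOf_eq_of_le hHN, MonoidHom.map_closure,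
          map_subgroupOf_eq_of_le (hTN _ (Finset.mem_powerset.2 (by
            rw [← hmap]; exact Finset.map_subset_map.2 (Finset.mem_powerset.1 hB))))]
        simp [T]
    · intro Q hQ
      obtain ⟨S, hS⟩ := hH.exists_le_sylow
      obtain ⟨u, huS, huN, huH⟩ := exists_mem_normalizer_notMem S.isPGroup' hS (hsyl S)
      have hM : IsPGroup p ((S : Subgroup G).subgroupOf N) :=
        S.isPGroup'.comap_of_injective N.subtype N.subtype_injective
      have h' := Q.is_maximal' hM (hQ ▸ fun x hx => hS hx)
      have : (⟨u, huN⟩ : N) ∈ H.subgroupOf N := by rw [hQ, ← h']; exact huS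
      exact huH this
    · simp only [hE', Finset.mem_subtype]
      exact hEmem _ x.2 hx
  have hl : ∑ A ∈ E.powerset, (-1 : ℤ) ^ A.card * (sylCount p P (T A) : ℤ) = 0 :=
    signed_sylCount P hsyl E hEmem
  have hn := hswap.trans hN0
  -- all terms but the first agree
  have hrest : ∀ A ∈ E.powerset, A ≠ ∅ → normCount p (T A) = sylCount p P (T A) := by
    intro A hA hne
    obtain ⟨x, hx⟩ := Finset.nonempty_iff_ne_empty.2 hne
    have hxE := Finset.mem_powerset.1 hA hx
    simp only [hE, Finset.mem_filter] at hxE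
    have hlt : H < T A := lt_of_le_of_ne le_sup_left fun h =>
      hxE.2.2 (h.symm ▸ (le_sup_right (a := H) (subset_closure (Finset.mem_coe.2 hx))))
    have hclt : Nat.card H < Nat.card (T A) := lt_of_not_ge fun hge =>
      hlt.ne (eq_of_le_of_card_le hlt.le hge)
    exact ih2 _ (by have := card_le_card_group (T A); omega) (T A) rfl
  have h0 : ∅ ∈ E.powerset := Finset.empty_mem_powerset E
  rw [← Finset.add_sum_erase _ _ h0] at hn hl
  have hsame : ∑ A ∈ E.powerset.erase ∅, (-1 : ℤ) ^ A.card * (normCount p (T A) : ℤ) =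
      ∑ A ∈ E.powerset.erase ∅, (-1 : ℤ) ^ A.card * (sylCount p P (T A) : ℤ) :=
    Finset.sum_congr rfl fun A hA => by
      rw [hrest A (Finset.mem_of_mem_erase hA) (Finset.ne_of_mem_erase hA)]
  have hT0 : T ∅ = H := by simp [T]
  rw [hT0, Finset.card_empty, pow_zero, one_mul] at hn hl
  have : (normCount p H : ℤ) = sylCount p P H := by linarith
  exact_mod_cast this

end Cfsg.Agent.Solvable
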